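import Cfsg.Agent.H793.TA.TwoMain
import Cfsg.Agent.H915.LD
import Cfsg.Agent.H920.Basic

/-!
# `3·A₆` has no absolutely irreducible representation of degree nine in characteristic five (helper793, S5830/S5833)

* `not_nine` : `P ≤ GL₉(F)`, `char F = 5`, `Core P`, `Soc P ≃ A₆`, `3 ∣ |P ∩ scalars|` ⟹ `False`;
* `five` : the traces (vacuous).
-/

set_option autoImplicit false

namespace Cfsg.Agent.H793.TA

open Cfsg Cfsg.Geo Matrix Cfsg.Agent.H915.LD Module

universe u

variable {F : Type u} [Field F]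

/-- the representation of a matrix group -/
noncomputable def repOf (P : Subgroup (GL (Fin 9) F)) : P →* Module.End F (Fin 9 → F) :=
  ((Matrix.toLinAlgEquiv' : Matrix (Fin 9) (Fin 9) F ≃ₐ[F] _) : Matrix (Fin 9) (Fin 9) F →* Module.End F (Fin 9 → F)).comp
    ((Units.coeHom _).comp P.subtype)

theorem repOf_apply (P : Subgroup (GL (Fin 9) F)) (g : P) :
    repOf P g = Matrix.toLinAlgEquiv' ((g : GL (Fin 9) F) : Matrix (Fin 9) (Fin 9) F) := rfl

theorem rep_of [CharP F 5] {P : Subgroup (GL (Fin 9) F)} (hC : Core P) (e : Soc P ≃* alternatingGroup (Fin 6))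
    (h3 : 3 ∣ Nat.card ((scalars (Fin 9) F).subgroupOf P)) : Rep (e.toMonoidHom.comp (toSoc P)) (repOf P) := by
  have hker : ∀ z : P, (e.toMonoidHom.comp (toSoc P)) z = 1 ↔ z ∈ (scalars (Fin 9) F).subgroupOf P := by
    intro z
    rw [← MonoidHom.mem_ker, ker_comp]
  refine ⟨⟨e.surjective.comp (toSoc_surjective P), ?_, ?_, hC.commutator_top, ?_⟩, ?_, ?_, ?_, ?_⟩
  · intro z hz g
    exact ((Subgroup.mem_center_iff.1 (scalars_le_center ((hker z).1 hz))) g).symm
  · intro z hz
    have := hC.pow_card ((hker z).1 hz)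
    rwa [Fintype.card_fin] at this
  · by_contra hcon
    push Not at hcon
    have h1 : (scalars (Fin 9) F).subgroupOf P = ⊥ := by
      rw [Subgroup.eq_bot_iff_forall]
      intro z hz
      exact hcon z ((hker z).2 hz)
    rw [h1, Subgroup.card_bot] at h3
    omega
  · intro a b hab
    apply Subtype.ext
    apply Units.ext
    exact Matrix.toLinAlgEquiv'.injective hab
  · intro z hz
    have h1 := (hker z).1 hz
    rw [Subgroup.mem_subgroupOf, mem_scalars_iff] at h1
    obtain ⟨c, hc⟩ := h1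
    refine ⟨c, ?_⟩
    rw [repOf_apply, hc, map_smul, map_one]
  · have h1 := Cfsg.Agent.H920.span_eq_top hC.absIrred
    have h2 : Set.range (repOf P) = (Matrix.toLinAlgEquiv' : Matrix (Fin 9) (Fin 9) F ≃ₐ[F] _).toLinearMap ''
        (matrixSet P) := by
      ext A
      constructor
      · rintro ⟨g, rfl⟩
        exact ⟨_, ⟨g, g.2, rfl⟩, rfl⟩
      · rintro ⟨_, ⟨g, hg, rfl⟩, rfl⟩
        exact ⟨⟨g, hg⟩, rfl⟩
    rw [h2, ← Submodule.map_span, h1, Submodule.map_top, LinearMap.range_eq_top]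
    exact (Matrix.toLinAlgEquiv' : Matrix (Fin 9) (Fin 9) F ≃ₐ[F] _).surjective
  · rw [Module.finrank_fintype_fun_eq_card, Fintype.card_fin]

/-- **`3·A₆` has no absolutely irreducible representation of degree nine in characteristic five.** -/
theorem not_nine [CharP F 5] {P : Subgroup (GL (Fin 9) F)} (hC : Core P) (e : Soc P ≃* alternatingGroup (Fin 6))
    (h3 : 3 ∣ Nat.card ((scalars (Fin 9) F).subgroupOf P)) : False :=
  (rep_of hC e h3).false

theorem five {F : Type u} [Field F] [Finite F] [CharP F 5] {P : Subgroup (GL (Fin 9) F)} (hC : Core P)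
    (e : Soc P ≃* alternatingGroup (Fin 6)) (h3 : 3 ∣ Nat.card ((scalars (Fin 9) F).subgroupOf P)) :
    (∀ g ∈ P, orderOf g = 2 → tr g = -3) ∧ (∀ g ∈ P, orderOf g = 4 → tr g = 3) :=
  (not_nine hC e h3).elim

end Cfsg.Agent.H793.TA
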