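import Mathlib

/-!
# Perfect central extensions of `A₆` by `3`-groups (helper793, S5830/S5833)
-/

set_option autoImplicit false

namespace Cfsg.Agent.H793.TA

open Equiv Equiv.Perm

/-- the alternating group of degree six -/
abbrev A6 := alternatingGroup (Fin 6)

def p1 : Perm (Fin 6) := swap 0 1 * swap 1 2
def p2 : Perm (Fin 6) := swap 3 4 * swap 4 5
def b1 : Perm (Fin 6) := swap 0 1 * swap 2 3
def b2 : Perm (Fin 6) := swap 0 2 * swap 1 3
def b3 : Perm (Fin 6) := swap 0 3 * swap 1 2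
def bs : Perm (Fin 6) := swap 0 1 * swap 4 5

/-- `(0 1 2)` -/
def c1 : A6 := ⟨p1, mem_alternatingGroup.2 (by decide)⟩
/-- `(3 4 5)` -/
def c2 : A6 := ⟨p2, mem_alternatingGroup.2 (by decide)⟩
def a1 : A6 := ⟨b1, mem_alternatingGroup.2 (by decide)⟩
def a2 : A6 := ⟨b2, mem_alternatingGroup.2 (by decide)⟩
def a3 : A6 := ⟨b3, mem_alternatingGroup.2 (by decide)⟩
def as : A6 := ⟨bs, mem_alternatingGroup.2 (by decide)⟩

set_option maxRecDepth 100000 in
theorem dec_cent : ∀ g : Perm (Fin 6), g * p1 = p1 * g → g * p2 = p2 * g →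
    ∃ i j : Fin 3, g = p1 ^ (i : ℕ) * p2 ^ (j : ℕ) := by decide +kernel

set_option maxRecDepth 100000 in
theorem dec_card : Fintype.card {g : Perm (Fin 6) // sign g = 1 ∧ g * p1 = p1 * g ∧ g * p2 = p2 * g} = 9 := by
  decide +kernel

/-- The transfer into an abelian subgroup. -/
theorem pow_index_eq_one {G : Type*} [Group G] (H : Subgroup G) [H.FiniteIndex]
    (hc : ∀ a ∈ H, ∀ b ∈ H, a * b = b * a) {z : G} (hzc : ∀ g, z * g = g * z) (hz : z ∈ commutator G) :
    z ^ H.index = 1 := by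
  let _ : CommGroup H := { (inferInstance : Group H) with mul_comm := fun a b => Subtype.ext (hc a a.2 b b.2) }
  have key : ∀ (k : ℕ) (g₀ : G), g₀⁻¹ * z ^ k * g₀ ∈ H → g₀⁻¹ * z ^ k * g₀ = z ^ k := by
    intro k g₀ _
    have h1 : z ^ k * g₀ = g₀ * z ^ k := ((show Commute z g₀ from hzc g₀).pow_left k).eq
    rw [mul_assoc, h1, inv_mul_cancel_left]
  have h1 := MonoidHom.transfer_eq_pow (MonoidHom.id H) z key
  have h2 : MonoidHom.transfer (MonoidHom.id H) z = 1 := by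
    have h3 : commutator G ≤ (MonoidHom.transfer (MonoidHom.id H)).ker := Abelianization.commutator_subset_ker _
    exact h3 hz
  rw [h2] at h1
  exact (congrArg Subtype.val h1).symm

/-- Perfect central extensions of `A₆` with kernel of exponent dividing nine. -/
structure Ext {P : Type*} [Group P] (π : P →* A6) : Prop where
  surj : Function.Surjective π
  cent : ∀ z, π z = 1 → ∀ g, z * g = g * z
  nine : ∀ z, π z = 1 → z ^ 9 = 1
  perf : commutator P = ⊤
  ex : ∃ z, π z = 1 ∧ z ≠ 1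

namespace Ext

variable {P : Type*} [Group P] {π : P →* A6} (h : Ext π)

include h

theorem eq_of_sq {x y : P} (hx : x * x = 1) (hy : y * y = 1) (hxy : π x = π y) : x = y := by
  have h1 : π (x * y⁻¹) = 1 := by rw [map_mul, map_inv, hxy, mul_inv_cancel]
  have h2 := h.cent _ h1
  have h3 := h.nine _ h1
  have hy' : y⁻¹ = y := inv_eq_of_mul_eq_one_left hy
  have h4 : (x * y⁻¹) ^ 2 = 1 := by
    have h5 : x * y⁻¹ * y = x := inv_mul_cancel_right x y
    calc (x * y⁻¹) ^ 2 = (x * y⁻¹) * (x * y⁻¹) * (y * y) := by rw [hy, mul_one, pow_two]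
      _ = (x * y⁻¹) * ((x * y⁻¹ * y) * y) := by group
      _ = (x * y⁻¹) * (x * y) := by rw [h5]
      _ = (x * y⁻¹) * x * y := by group
      _ = x * (x * y⁻¹) * y := by rw [h2]
      _ = (x * x) := by group
      _ = 1 := hx
  have h5 : x * y⁻¹ = 1 := by
    calc x * y⁻¹ = (x * y⁻¹) ^ 9 * ((x * y⁻¹) ^ 2)⁻¹ ^ 4 := by group
      _ = 1 := by rw [h3, h4]; simp
  exact mul_inv_eq_one.1 h5

theorem exists_sq {g : A6} (hg : g * g = 1) : ∃ x, π x = g ∧ x * x = 1 := by
  obtain ⟨y, hy⟩ := h.surj g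
  refine ⟨y ^ 9, ?_, ?_⟩
  · rw [map_pow, hy]
    calc g ^ 9 = (g * g) ^ 4 * g := by rw [← pow_two, ← pow_mul, ← pow_succ]
      _ = g := by rw [hg]; simp
  · have h1 : π (y * y) = 1 := by rw [map_mul, hy, hg]
    calc y ^ 9 * y ^ 9 = (y * y) ^ 9 := by rw [← pow_two y, ← pow_mul, ← pow_add]
      _ = 1 := h.nine _ h1

/-- an element inverted by an involution -/
theorem cube_eq_one {u x : P} (hu : u * x * u⁻¹ = x⁻¹) (hx : π x ^ 3 = 1) : x ^ 3 = 1 := by
  have h1 : π (x ^ 3) = 1 := by rw [map_pow, hx]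
  have h2 := h.cent _ h1 u
  have h3 := h.nine _ h1
  have h4 : u * x ^ 3 * u⁻¹ = (x ^ 3)⁻¹ := by
    rw [← inv_pow, ← hu, conj_pow]
  rw [← h2, mul_inv_cancel_right] at h4
  have h5 : (x ^ 3) ^ 2 = 1 := by
    rw [pow_two]
    nth_rewrite 1 [h4]
    exact inv_mul_cancel _
  calc x ^ 3 = (x ^ 3) ^ 9 * ((x ^ 3) ^ 2)⁻¹ ^ 4 := by group
    _ = 1 := by rw [h3, h5]; simp

/-- a lift inverted by `u` -/
theorem exists_inv {u : P} {g : A6} (hu : π u * g * (π u)⁻¹ = g⁻¹) : ∃ x, π x = g ∧ u * x * u⁻¹ = x⁻¹ := by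
  obtain ⟨y, hy⟩ := h.surj g
  set z := u * y * u⁻¹ * y with hz
  have h1 : π z = 1 := by
    rw [hz, map_mul, map_mul, map_mul, map_inv, hy, hu, inv_mul_cancel]
  have h2 := h.cent z h1
  have h3 := h.nine z h1
  have hz4 : ∀ g, z ^ 4 * g = g * z ^ 4 := fun g => ((show Commute z g from h2 g).pow_left 4).eq
  have h5 : u * y * u⁻¹ = z * y⁻¹ := by rw [hz]; group
  refine ⟨y * z ^ 4, by rw [map_mul, map_pow, h1, hy, one_pow, mul_one], ?_⟩
  have h6 : z ^ 5 = (z ^ 4)⁻¹ := by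
    rw [eq_inv_iff_mul_eq_one, ← pow_add]
    exact h3
  calc u * (y * z ^ 4) * u⁻¹ = u * y * (z ^ 4 * u⁻¹) := by group
    _ = u * y * (u⁻¹ * z ^ 4) := by rw [hz4]
    _ = (u * y * u⁻¹) * z ^ 4 := by group
    _ = z * y⁻¹ * z ^ 4 := by rw [h5]
    _ = z * (y⁻¹ * z ^ 4) := by group
    _ = z * (z ^ 4 * y⁻¹) := by rw [hz4]
    _ = z ^ 5 * y⁻¹ := by group
    _ = (z ^ 4)⁻¹ * y⁻¹ := by rw [h6]
    _ = (y * z ^ 4)⁻¹ := by group

/-- `P` is not abelian on the preimage of a Sylow `3`-subgroup -/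
theorem not_comm {x y : P} (hx : π x = c1) (hy : π y = c2) : x * y ≠ y * x := by
  intro hxy
  let H9 : Subgroup A6 :=
    { carrier := {g | (g : Perm (Fin 6)) * p1 = p1 * g ∧ (g : Perm (Fin 6)) * p2 = p2 * g}
      one_mem' := by simp
      mul_mem' := by
        rintro a b ⟨ha, ha'⟩ ⟨hb, hb'⟩
        constructor
        · show (a : Perm (Fin 6)) * b * p1 = p1 * (a * b)
          rw [mul_assoc, hb, ← mul_assoc, ha, mul_assoc]
        · show (a : Perm (Fin 6)) * b * p2 = p2 * (a * b)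
          rw [mul_assoc, hb', ← mul_assoc, ha', mul_assoc]
      inv_mem' := by
        rintro a ⟨ha, ha'⟩
        constructor
        · show (a : Perm (Fin 6))⁻¹ * p1 = p1 * (a : Perm (Fin 6))⁻¹
          rw [inv_mul_eq_iff_eq_mul, ← mul_assoc, ha, mul_inv_cancel_right]
        · show (a : Perm (Fin 6))⁻¹ * p2 = p2 * (a : Perm (Fin 6))⁻¹
          rw [inv_mul_eq_iff_eq_mul, ← mul_assoc, ha', mul_inv_cancel_right] }
  have hcard : Nat.card H9 = 9 := by
    rw [← dec_card, ← Nat.card_eq_fintype_card]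
    refine Nat.card_congr ⟨fun g => ⟨((g : A6) : Perm (Fin 6)), mem_alternatingGroup.1 (g : A6).2, g.2⟩,
      fun g => ⟨⟨g, mem_alternatingGroup.2 g.2.1⟩, g.2.2⟩, fun g => rfl, fun g => rfl⟩
  have hidx : H9.index = 40 := by
    have h1 := H9.card_mul_index
    rw [hcard] at h1
    have h2 : Nat.card A6 = 360 := by
      rw [nat_card_alternatingGroup]
      simp [Nat.factorial]
    rw [h2] at h1
    omega
  have hgen : ∀ g ∈ H9.comap π, ∃ i j : ℕ, ∃ z, π z = 1 ∧ g = x ^ i * y ^ j * z := by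
    intro g hg
    obtain ⟨i, j, hij⟩ := dec_cent _ hg.1 hg.2
    refine ⟨i, j, (x ^ (i : ℕ) * y ^ (j : ℕ))⁻¹ * g, ?_, by group⟩
    rw [map_mul, map_inv, map_mul, map_pow, map_pow, hx, hy, inv_mul_eq_one]
    exact Subtype.ext hij.symm
  have hcomm : ∀ a ∈ H9.comap π, ∀ b ∈ H9.comap π, a * b = b * a := by
    intro a ha b hb
    obtain ⟨i, j, z, hz, rfl⟩ := hgen a ha
    obtain ⟨k, l, w, hw, rfl⟩ := hgen b hb
    have hz' : ∀ g, Commute z g := fun g => h.cent z hz g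
    have hw' : ∀ g, Commute w g := fun g => h.cent w hw g
    have hxy' : Commute x y := hxy
    have e1 : Commute (x ^ i * y ^ j) (x ^ k * y ^ l) := by
      apply Commute.mul_left
      · exact Commute.mul_right ((Commute.refl x).pow_pow i k) (hxy'.pow_pow i l)
      · exact Commute.mul_right (hxy'.symm.pow_pow j k) ((Commute.refl y).pow_pow j l)
    have e2 : Commute (x ^ i * y ^ j * z) (x ^ k * y ^ l * w) := by
      apply Commute.mul_left
      · exact Commute.mul_right e1 (hw' _).symm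
      · exact hz' _
    exact e2
  have hfi : (H9.comap π).index = 40 := by
    rw [Subgroup.index_comap_of_surjective _ h.surj, hidx]
  have : (H9.comap π).FiniteIndex := ⟨by rw [hfi]; norm_num⟩
  obtain ⟨z, hz, hz1⟩ := h.ex
  have h1 := pow_index_eq_one (H9.comap π) hcomm (h.cent z hz) (by rw [h.perf]; trivial)
  rw [hfi] at h1
  apply hz1
  have h2 := h.nine z hz
  calc z = (z ^ 9) ^ 9 * ((z ^ 40) ^ 2)⁻¹ := by group
    _ = 1 := by rw [h1, h2]; simp

end Ext

end Cfsg.Agent.H793.TA
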