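import Mathlib

/-!
# Idempotents and their ranks (helper793)
-/

set_option autoImplicit false

namespace Cfsg.Agent.H793.TA

open Module

variable {F : Type*} [Field F] {V : Type*} [AddCommGroup V] [Module F V] [FiniteDimensional F V]

/-- the rank -/
noncomputable def rk (e : End F V) : ℕ := finrank F (LinearMap.range e)

theorem trace_idem {e : End F V} (he : e * e = e) : LinearMap.trace F V e = (rk e : F) :=
  (LinearMap.IsIdempotentElem.isProj_range e he).trace

theorem eq_zero_of_rk {e : End F V} (he : rk e = 0) : e = 0 := by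
  rw [← LinearMap.range_eq_bot]
  exact Submodule.finrank_eq_zero.1 he

theorem rk_add {e f : End F V} (he : e * e = e) (hf : f * f = f) (hef : e * f = 0) (hfe : f * e = 0) :
    rk (e + f) = rk e + rk f := by
  have h1 : LinearMap.range (e + f) = LinearMap.range e ⊔ LinearMap.range f := by
    apply le_antisymm
    · rintro _ ⟨v, rfl⟩
      exact Submodule.add_mem_sup ⟨v, rfl⟩ ⟨v, rfl⟩
    · apply sup_le
      · rintro _ ⟨v, rfl⟩
        refine ⟨e v, ?_⟩
        have h2 : e (e v) = e v := LinearMap.congr_fun he v
        have h3 : f (e v) = 0 := LinearMap.congr_fun hfe v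
        rw [LinearMap.add_apply, h2, h3, add_zero]
      · rintro _ ⟨v, rfl⟩
        refine ⟨f v, ?_⟩
        have h2 : f (f v) = f v := LinearMap.congr_fun hf v
        have h3 : e (f v) = 0 := LinearMap.congr_fun hef v
        rw [LinearMap.add_apply, h2, h3, zero_add]
  have h2 : LinearMap.range e ⊓ LinearMap.range f = ⊥ := by
    rw [eq_bot_iff]
    rintro _ ⟨⟨v, rfl⟩, ⟨w, hw⟩⟩
    have h3 : e (f w) = 0 := LinearMap.congr_fun hef w
    rw [hw] at h3
    have h2 : e (e v) = e v := LinearMap.congr_fun he v
    rw [Submodule.mem_bot, ← h2, h3]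
  have h3 := Submodule.finrank_sup_add_finrank_inf_eq (LinearMap.range e) (LinearMap.range f)
  rw [h2, finrank_bot, add_zero, ← h1] at h3
  exact h3

theorem rk_one : rk (1 : End F V) = finrank F V := by
  unfold rk
  have : LinearMap.range (1 : End F V) = ⊤ := LinearMap.range_id
  rw [this, finrank_top]

theorem rk_mul_le_left (e f : End F V) : rk (e * f) ≤ rk e := by
  apply Submodule.finrank_mono
  rintro _ ⟨v, rfl⟩
  exact ⟨f v, rfl⟩

theorem rk_mul_le_right (e f : End F V) : rk (e * f) ≤ rk f := by
  have h1 : LinearMap.range (e * f) = (LinearMap.range f).map e := LinearMap.range_comp f e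
  unfold rk
  rw [h1]
  exact Submodule.finrank_map_le e _

theorem rk_conj {g g' : End F V} (h : g' * g = 1) (e : End F V) : rk (g * e * g') = rk e := by
  have h' : g * g' = 1 := mul_eq_one_comm.1 h
  apply le_antisymm
  · exact (rk_mul_le_left _ _).trans (rk_mul_le_right _ _)
  · have h1 : e = g' * (g * e * g') * g := by
      calc e = (g' * g) * e * (g' * g) := by rw [h, one_mul, mul_one]
        _ = _ := by noncomm_ring
    calc rk e = rk (g' * (g * e * g') * g) := by rw [← h1]
      _ ≤ rk (g * e * g') := (rk_mul_le_left _ _).trans (rk_mul_le_right _ _)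

theorem apply_of_mem {e : End F V} (he : e * e = e) {v : V} (hv : v ∈ LinearMap.range e) : e v = v := by
  obtain ⟨w, rfl⟩ := hv
  exact LinearMap.congr_fun he w

end Cfsg.Agent.H793.TA
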