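import Cfsg.Agent.H793.TA.Three

/-!
# A complement of the centre in the preimage of `A₅` (helper793)
-/

set_option autoImplicit false
set_option linter.unusedSectionVars false

namespace Cfsg.Agent.H793.TA

open Equiv Equiv.Perm
open scoped commutatorElement

set_option maxRecDepth 100000 in
theorem dec_invol : ∀ h : Perm (Fin 6), h 5 = 5 → sign h = 1 → ∃ g : Perm (Fin 6), g 5 = 5 ∧ g * g = 1 ∧
    (g * h) * (g * h) = 1 ∧ sign g = 1 := by decide +kernel

set_option maxRecDepth 100000 in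
theorem dec_comm : ∀ g : Perm (Fin 6), g 5 = 5 → sign g = 1 → g * g = 1 → ∃ b : Perm (Fin 6), b 5 = 5 ∧ sign b = 1 ∧
    (b * g * b⁻¹) * (b * (b * g * b⁻¹) * b⁻¹) = g ∧ (b * (b * g * b⁻¹) * b⁻¹) * (b * g * b⁻¹) = g := by decide +kernel

set_option maxRecDepth 100000 in
theorem dec_four : ∀ g : Perm (Fin 6), g 5 = 5 → g 4 = 4 → sign g = 1 → ∃ i : Fin 3, g = p1 ^ (i : ℕ) ∨
    g = b1 * p1 ^ (i : ℕ) ∨ g = b2 * p1 ^ (i : ℕ) ∨ g = b3 * p1 ^ (i : ℕ) := by decide +kernel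

set_option maxRecDepth 100000 in
theorem dec_three : ∀ j : Fin 6, j ≠ 5 → ∃ b : Perm (Fin 6), sign b = 1 ∧ b 5 = 5 ∧ b 4 = 4 ∧ b j = j ∧
    b * b * b = 1 ∧ b ≠ 1 := by decide +kernel

variable {P : Type*} [Group P] (π : P →* A6)

/-- the subgroup generated by the lifts of the involutions fixing `5` -/
def K : Subgroup P := Subgroup.closure {x | x * x = 1 ∧ (π x : Perm (Fin 6)) 5 = 5}

/-- the preimage of the stabilizer of `5` -/
def Q : Subgroup P where
  carrier := {x | (π x : Perm (Fin 6)) 5 = 5}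
  one_mem' := by simp
  mul_mem' := by
    intro a b ha hb
    have ha' : (π a : Perm (Fin 6)) 5 = 5 := ha
    have hb' : (π b : Perm (Fin 6)) 5 = 5 := hb
    show (π (a * b) : Perm (Fin 6)) 5 = 5
    rw [map_mul]
    show (π a : Perm (Fin 6)) ((π b : Perm (Fin 6)) 5) = 5
    rw [hb', ha']
  inv_mem' := by
    intro a ha
    have ha' : (π a : Perm (Fin 6)) 5 = 5 := ha
    show (π a⁻¹ : Perm (Fin 6)) 5 = 5
    rw [map_inv]
    show (π a : Perm (Fin 6))⁻¹ 5 = 5
    have e1 : ∀ (σ : Perm (Fin 6)) (x : Fin 6), σ⁻¹ (σ x) = x := fun σ x => σ.symm_apply_apply x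
    calc (π a : Perm (Fin 6))⁻¹ 5 = (π a : Perm (Fin 6))⁻¹ ((π a : Perm (Fin 6)) 5) := by rw [ha']
      _ = 5 := e1 _ _

variable {π}

theorem mem_Q {x : P} : x ∈ Q π ↔ (π x : Perm (Fin 6)) 5 = 5 := Iff.rfl

theorem mem_K {x : P} (hx : x * x = 1) (h5 : (π x : Perm (Fin 6)) 5 = 5) : x ∈ K π := Subgroup.subset_closure ⟨hx, h5⟩

theorem K_le_Q : K π ≤ Q π := (Subgroup.closure_le _).2 fun _ hx => hx.2

variable (h : Ext π)
include h

/-- `π` maps `K` onto the stabilizer -/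
theorem exists_K {g : A6} (hg : (g : Perm (Fin 6)) 5 = 5) : ∃ k ∈ K π, π k = g := by
  obtain ⟨u, hu5, hu2, huu, hus⟩ := dec_invol g hg (mem_alternatingGroup.1 g.2)
  let u' : A6 := ⟨u, mem_alternatingGroup.2 hus⟩
  obtain ⟨x, hx, hx2⟩ := h.exists_sq (g := u') (Subtype.ext hu2)
  obtain ⟨z, hz, hz2⟩ := h.exists_sq (g := u' * g) (Subtype.ext huu)
  refine ⟨x * z, mul_mem (mem_K hx2 ?_) (mem_K hz2 ?_), ?_⟩
  · rw [hx]; exact hu5
  · rw [hz]
    show u ((g : Perm (Fin 6)) 5) = 5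
    rw [hg, hu5]
  · rw [map_mul, hx, hz, ← mul_assoc]
    have : u' * u' = 1 := Subtype.ext hu2
    rw [this, one_mul]

/-- the generators are commutators -/
theorem gen_mem_comm {x : P} (hx : x * x = 1) (h5 : (π x : Perm (Fin 6)) 5 = 5) : x ∈ ⁅Q π, Q π⁆ := by
  have hg2 : (π x : Perm (Fin 6)) * (π x : Perm (Fin 6)) = 1 := by
    have : π x * π x = 1 := by rw [← map_mul, hx, map_one]
    exact congrArg Subtype.val this
  obtain ⟨b, hb5, hbs, hb1, hb2⟩ := dec_comm (π x) h5 (mem_alternatingGroup.1 (π x).2) hg2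
  let b' : A6 := ⟨b, mem_alternatingGroup.2 hbs⟩
  obtain ⟨β, hβ⟩ := h.surj b'
  have hβQ : β ∈ Q π := by rw [mem_Q, hβ]; exact hb5
  have hxQ : x ∈ Q π := h5
  set x' := β * x * β⁻¹ with hx'
  set x'' := β * x' * β⁻¹ with hx''
  have h1 : x' * x' = 1 := by
    calc x' * x' = β * (x * x) * β⁻¹ := by rw [hx']; group
      _ = 1 := by rw [hx]; group
  have h2 : x'' * x'' = 1 := by
    calc x'' * x'' = β * (x' * x') * β⁻¹ := by rw [hx'']; group
      _ = 1 := by rw [h1]; group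
  have e1 : π x' = b' * π x * b'⁻¹ := by rw [hx', map_mul, map_mul, map_inv, hβ]
  have e2 : π x'' = b' * π x' * b'⁻¹ := by rw [hx'', map_mul, map_mul, map_inv, hβ]
  have h3 : π x' * π x'' = π x := by
    rw [e2, e1]
    exact Subtype.ext hb1
  have h4 : π x'' * π x' = π x := by
    rw [e2, e1]
    exact Subtype.ext hb2
  have h6 : x' * x'' = x := h.mul_sq h1 h2 hx (h3.trans h4.symm) h3
  have hx'Q : x' ∈ Q π := mul_mem (mul_mem hβQ hxQ) (inv_mem hβQ)
  have h7 : x = ⁅x', β⁆ := by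
    rw [commutatorElement_def, ← h6, hx'', inv_eq_of_mul_eq_one_right h1]
    group
  rw [h7]
  exact Subgroup.commutator_mem_commutator hx'Q hβQ

/-- `K` meets the kernel trivially. -/
theorem K_ker {z : P} (hz : z ∈ K π) (hz1 : π z = 1) : z = 1 := by
  have h1 : z ∈ ⁅Q π, Q π⁆ := by
    have : K π ≤ ⁅Q π, Q π⁆ := (Subgroup.closure_le _).2 fun x hx => gen_mem_comm h hx.1 hx.2
    exact this hz
  have h2 : (⟨z, K_le_Q hz⟩ : Q π) ∈ commutator (Q π) := by
    have h3 : (commutator (Q π)).map (Q π).subtype = ⁅Q π, Q π⁆ := Subgroup.map_subtype_commutator _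
    rw [← h3] at h1
    obtain ⟨w, hw, hwz⟩ := h1
    have : w = ⟨z, K_le_Q hz⟩ := Subtype.ext hwz
    rw [← this]; exact hw
  -- the abelian subgroup
  let H3 : Subgroup (Q π) := (Subgroup.zpowers c1).comap (π.comp (Q π).subtype)
  have hc1 : c1 ^ 3 = 1 := by decide
  obtain ⟨y, hy⟩ := h.surj c1
  have hgen : ∀ g ∈ H3, ∃ i : ℤ, ∃ w : P, π w = 1 ∧ (g : P) = y ^ i * w := by
    rintro g ⟨i, hi⟩
    have hi' : c1 ^ i = π (g : P) := hi
    refine ⟨i, (y ^ i)⁻¹ * g, ?_, by group⟩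
    rw [map_mul, map_inv, map_zpow, hy, hi', inv_mul_cancel]
  have hcomm : ∀ a ∈ H3, ∀ b ∈ H3, a * b = b * a := by
    intro a ha b hb
    obtain ⟨i, z, hz, hz'⟩ := hgen a ha
    obtain ⟨j, w, hw, hw'⟩ := hgen b hb
    apply Subtype.ext
    show (a : P) * b = b * a
    rw [hz', hw']
    have hzc : ∀ g, Commute z g := fun g => h.cent z hz g
    have hwc : ∀ g, Commute w g := fun g => h.cent w hw g
    have e2 : Commute (y ^ i * z) (y ^ j * w) := by
      apply Commute.mul_left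
      · exact Commute.mul_right ((Commute.refl y).zpow_zpow i j) (hwc _).symm
      · exact hzc _
    exact e2
  have hcard : Nat.card (Subgroup.zpowers c1) = 3 := by
    rw [Nat.card_zpowers]
    have : Fact (Nat.Prime 3) := ⟨Nat.prime_three⟩
    exact orderOf_eq_prime hc1 (by decide)
  -- the index
  let R5 : Subgroup A6 :=
    { carrier := {g | (g : Perm (Fin 6)) 5 = 5}
      one_mem' := rfl
      mul_mem' := by
        intro a b ha hb
        have ha' : (a : Perm (Fin 6)) 5 = 5 := ha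
        have hb' : (b : Perm (Fin 6)) 5 = 5 := hb
        show (a : Perm (Fin 6)) ((b : Perm (Fin 6)) 5) = 5
        rw [hb', ha']
      inv_mem' := by
        intro a ha
        have ha' : (a : Perm (Fin 6)) 5 = 5 := ha
        show (a : Perm (Fin 6))⁻¹ 5 = 5
        have e1 : ∀ (σ : Perm (Fin 6)) (x : Fin 6), σ⁻¹ (σ x) = x := fun σ x => σ.symm_apply_apply x
        calc (a : Perm (Fin 6))⁻¹ 5 = (a : Perm (Fin 6))⁻¹ ((a : Perm (Fin 6)) 5) := by rw [ha']
          _ = 5 := e1 _ _ }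
  have hR : Nat.card R5 = 60 := by
    rw [← dec_card5, ← Nat.card_eq_fintype_card]
    refine Nat.card_congr ⟨fun g => ⟨((g : A6) : Perm (Fin 6)), mem_alternatingGroup.1 (g : A6).2, g.2⟩,
      fun g => ⟨⟨g, mem_alternatingGroup.2 g.2.1⟩, g.2.2⟩, fun g => rfl, fun g => rfl⟩
  let πQ : Q π →* R5 := (π.comp (Q π).subtype).codRestrict R5 fun g => g.2
  have hπQ : Function.Surjective πQ := by
    intro g
    obtain ⟨x, hx⟩ := h.surj g
    refine ⟨⟨x, ?_⟩, Subtype.ext hx⟩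
    rw [mem_Q, hx]
    exact g.2
  have hcR : Subgroup.zpowers c1 ≤ R5 := by
    rw [Subgroup.zpowers_le]
    show (c1 : Perm (Fin 6)) 5 = 5
    decide
  have hH3 : H3 = ((Subgroup.zpowers c1).subgroupOf R5).comap πQ := rfl
  have hidx : H3.index = 20 := by
    rw [hH3, Subgroup.index_comap_of_surjective _ hπQ]
    have h3 := ((Subgroup.zpowers c1).subgroupOf R5).card_mul_index
    rw [Nat.card_congr (Subgroup.subgroupOfEquivOfLe hcR).toEquiv, hcard, hR] at h3
    omega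
  have : H3.FiniteIndex := ⟨by rw [hidx]; norm_num⟩
  have h4 := pow_index_eq_one H3 hcomm (z := ⟨z, K_le_Q hz⟩) (fun g => Subtype.ext (h.cent z hz1 g)) h2
  rw [hidx] at h4
  have h5 : z ^ 20 = 1 := congrArg Subtype.val h4
  have h6 := h.nine z hz1
  calc z = (z ^ 9) ^ 9 * ((z ^ 20) ^ 4)⁻¹ := by group
    _ = 1 := by rw [h5, h6]; simp

/-- `π` is injective on `K` -/
theorem K_inj {x z : P} (hx : x ∈ K π) (hz : z ∈ K π) (hxz : π x = π z) : x = z := by
  have h1 : x * z⁻¹ = 1 := K_ker h (mul_mem hx (inv_mem hz)) (by rw [map_mul, map_inv, hxz, mul_inv_cancel])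
  exact mul_inv_eq_one.1 h1

end Cfsg.Agent.H793.TA
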