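import Cfsg.Agent.H793.TA.Grp
import Cfsg.Agent.H793.TA.Idem

/-!
# Nine-dimensional representations of perfect central extensions of `A₆` in characteristic five: multiplicities (helper793)
-/

set_option autoImplicit false
set_option linter.unusedSectionVars false
set_option linter.unusedSimpArgs false

namespace Cfsg.Agent.H793.TA

open Module Equiv Equiv.Perm

/-- Representations -/
structure Rep {F : Type*} [Field F] {V : Type*} [AddCommGroup V] [Module F V] {P : Type*} [Group P] (π : P →* A6)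
    (ρ : P →* End F V) : Prop extends Ext π where
  inj : Function.Injective ρ
  sc : ∀ z, π z = 1 → ∃ c : F, ρ z = c • (1 : End F V)
  span : Submodule.span F (Set.range ρ) = ⊤
  dim : finrank F V = 9

/-- The elements -/
structure Elt {P : Type*} [Group P] (π : P →* A6) (t1 t2 t3 s y : P) : Prop where
  q1 : π t1 = a1
  q2 : π t2 = a2
  q3 : π t3 = a3
  qs : π s = as
  qy : π y = c1
  i1 : t1 * t1 = 1
  i2 : t2 * t2 = 1
  i3 : t3 * t3 = 1
  is : s * s = 1
  yyy : y * (y * y) = 1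
  m12 : t1 * t2 = t3
  m21 : t2 * t1 = t3
  m13 : t1 * t3 = t2
  m31 : t3 * t1 = t2
  m23 : t2 * t3 = t1
  m32 : t3 * t2 = t1
  y1 : y * t1 = t3 * y
  y3 : y * t3 = t2 * y
  y2 : y * t2 = t1 * y
  s1 : s * t1 = t1 * s
  s2 : s * t2 = t3 * s
  s3 : s * t3 = t2 * s
  sy : s * y = y * y * s
  cj : ∃ g, s * g = g * t1
  cy : ∃ g z, π z = 1 ∧ z ≠ 1 ∧ g * y = z * (y * g)

/-- `(2 4)(3 5)` -/
def ag : A6 := ⟨swap 2 4 * swap 3 5, mem_alternatingGroup.2 (by decide)⟩

section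
variable {P : Type*} [Group P] {π : P →* A6} (h : Ext π)
include h

theorem Ext.conj_sq {x u w : P} (hx : x * x = 1) (hu : u * u = 1) (hw : π w * π x = π u * π w) : w * x = u * w := by
  have h1 : w * x * w⁻¹ = u := by
    apply h.eq_of_sq
    · calc w * x * w⁻¹ * (w * x * w⁻¹) = w * (x * x) * w⁻¹ := by group
        _ = 1 := by rw [hx]; group
    · exact hu
    · rw [map_mul, map_mul, map_inv, hw, mul_inv_cancel_right]
  rw [← h1]; group

theorem Ext.mul_sq {x u w : P} (hx : x * x = 1) (hu : u * u = 1) (hw : w * w = 1) (hxu : π x * π u = π u * π x)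
    (hxw : π x * π u = π w) : x * u = w := by
  have h1 : x * u = u * x := h.conj_sq hu hu hxu
  apply h.eq_of_sq
  · calc x * u * (x * u) = x * (u * x) * u := by group
      _ = x * (x * u) * u := by rw [h1]
      _ = (x * x) * (u * u) := by group
      _ = 1 := by rw [hx, hu, one_mul]
  · exact hw
  · rw [map_mul, hxw]

theorem Ext.exists_elt : ∃ t1 t2 t3 s y, Elt π t1 t2 t3 s y := by
  obtain ⟨t1, q1, i1⟩ := h.exists_sq (g := a1) (by decide)
  obtain ⟨t2, q2, i2⟩ := h.exists_sq (g := a2) (by decide)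
  obtain ⟨t3, q3, i3⟩ := h.exists_sq (g := a3) (by decide)
  obtain ⟨s, qs, is⟩ := h.exists_sq (g := as) (by decide)
  obtain ⟨y, qy, sy⟩ := h.exists_inv (u := s) (g := c1) (by rw [qs]; decide)
  obtain ⟨g, hg⟩ := h.surj ag
  obtain ⟨x, hx⟩ := h.surj c2
  have hnc := h.not_comm qy hx
  have hy3 : y ^ 3 = 1 := h.cube_eq_one sy (by rw [qy]; decide)
  have hy3' : y * (y * y) = 1 := by rw [← hy3, pow_succ, pow_two, mul_assoc]
  have hyi : y⁻¹ = y * y := inv_eq_of_mul_eq_one_right hy3'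
  refine ⟨t1, t2, t3, s, y, q1, q2, q3, qs, qy, i1, i2, i3, is, hy3', ?_, ?_, ?_, ?_, ?_, ?_, ?_, ?_, ?_, ?_, ?_, ?_,
    ?_, ?_, ?_⟩
  · exact h.mul_sq i1 i2 i3 (by rw [q1, q2]; decide) (by rw [q1, q2, q3]; decide)
  · exact h.mul_sq i2 i1 i3 (by rw [q1, q2]; decide) (by rw [q1, q2, q3]; decide)
  · exact h.mul_sq i1 i3 i2 (by rw [q1, q3]; decide) (by rw [q1, q3, q2]; decide)
  · exact h.mul_sq i3 i1 i2 (by rw [q1, q3]; decide) (by rw [q1, q3, q2]; decide)
  · exact h.mul_sq i2 i3 i1 (by rw [q2, q3]; decide) (by rw [q2, q3, q1]; decide)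
  · exact h.mul_sq i3 i2 i1 (by rw [q2, q3]; decide) (by rw [q2, q3, q1]; decide)
  · exact h.conj_sq i1 i3 (by rw [q1, q3, qy]; decide)
  · exact h.conj_sq i3 i2 (by rw [q3, q2, qy]; decide)
  · exact h.conj_sq i2 i1 (by rw [q1, q2, qy]; decide)
  · exact h.conj_sq i1 i1 (by rw [q1, qs]; decide)
  · exact h.conj_sq i2 i3 (by rw [q2, q3, qs]; decide)
  · exact h.conj_sq i3 i2 (by rw [q2, q3, qs]; decide)
  · rw [← hyi, ← sy]; group
  · refine ⟨g, ?_⟩
    symm
    exact h.conj_sq i1 is (by rw [q1, qs, hg]; decide)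
  · refine ⟨x, x * y * x⁻¹ * y⁻¹, ?_, ?_, by group⟩
    · rw [map_mul, map_mul, map_mul, map_inv, map_inv, hx, qy]
      decide
    · intro h1
      apply hnc
      have h2 : x * y = y * x := by
        calc x * y = (x * y * x⁻¹ * y⁻¹) * (y * x) := by group
          _ = y * x := by rw [h1, one_mul]
      exact h2.symm

end

section idem

variable {F : Type*} [Field F] [CharP F 5] {V : Type*} [AddCommGroup V] [Module F V] [FiniteDimensional F V]

theorem five0 (F : Type*) [Field F] [CharP F 5] : (5 : F) = 0 := by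
  have := CharP.cast_eq_zero F 5
  exact_mod_cast this

/-- half of `1 + S` on the image of an idempotent -/
theorem half_idem {S g : End F V} (hS : S * S = 1) (hg : g * g = g) (hSg : S * g = g * S) :
    ((3 : F) • ((1 + S) * g)) * ((3 : F) • ((1 + S) * g)) = (3 : F) • ((1 + S) * g) := by
  have h5 := five0 F
  have h1 : (1 + S) * g * ((1 + S) * g) = (2 : F) • ((1 + S) * g) := by
    have h2 : g * (1 + S) = (1 + S) * g := by rw [mul_add, add_mul, hSg, mul_one, one_mul]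
    calc (1 + S) * g * ((1 + S) * g) = (1 + S) * (g * (1 + S)) * g := by noncomm_ring
      _ = (1 + S) * (1 + S) * (g * g) := by rw [h2]; noncomm_ring
      _ = (1 + S + S + S * S) * g := by rw [hg]; noncomm_ring
      _ = (1 + S + S + 1) * g := by rw [hS]
      _ = (2 : F) • ((1 + S) * g) := by
        rw [two_smul]
        noncomm_ring
  rw [smul_mul_smul_comm, h1, smul_smul]
  congr 1
  linear_combination 3 * h5

variable (T1 T2 T3 : End F V)

/-- the projections onto the weight spaces of the four-group -/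
def E0 : End F V := -(1 + T1 + T2 + T3)
def E1 : End F V := -(1 + T1 - T2 - T3)
def E2 : End F V := -(1 - T1 + T2 - T3)
def E3 : End F V := -(1 - T1 - T2 + T3)

/-- the relations of a four-group -/
structure V4 : Prop where
  i1 : T1 * T1 = 1
  i2 : T2 * T2 = 1
  i3 : T3 * T3 = 1
  m12 : T1 * T2 = T3
  m21 : T2 * T1 = T3
  m13 : T1 * T3 = T2
  m31 : T3 * T1 = T2
  m23 : T2 * T3 = T1
  m32 : T3 * T2 = T1

variable {T1 T2 T3} (h : V4 T1 T2 T3)
include h

theorem V4.e00 : E0 T1 T2 T3 * E0 T1 T2 T3 = E0 T1 T2 T3 := by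
  have h5 : (5 : F) • (1 + T1 + T2 + T3) = 0 := by rw [five0 F, zero_smul]
  unfold E0
  simp only [neg_mul_neg, mul_add, add_mul, mul_one, one_mul, h.i1, h.i2, h.i3, h.m12, h.m21, h.m13,
    h.m31, h.m23, h.m32]
  linear_combination (norm := module) h5

theorem V4.e11 : E1 T1 T2 T3 * E1 T1 T2 T3 = E1 T1 T2 T3 := by
  have h5 : (5 : F) • (1 + T1 - T2 - T3) = 0 := by rw [five0 F, zero_smul]
  unfold E1
  simp only [neg_mul_neg, mul_add, add_mul, mul_sub, sub_mul, mul_one, one_mul, h.i1, h.i2, h.i3, h.m12, h.m21, h.m13,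
    h.m31, h.m23, h.m32]
  linear_combination (norm := module) h5

theorem V4.e22 : E2 T1 T2 T3 * E2 T1 T2 T3 = E2 T1 T2 T3 := by
  have h5 : (5 : F) • (1 - T1 + T2 - T3) = 0 := by rw [five0 F, zero_smul]
  unfold E2
  simp only [neg_mul_neg, mul_add, add_mul, mul_sub, sub_mul, mul_one, one_mul, h.i1, h.i2, h.i3, h.m12, h.m21, h.m13,
    h.m31, h.m23, h.m32]
  linear_combination (norm := module) h5

theorem V4.e33 : E3 T1 T2 T3 * E3 T1 T2 T3 = E3 T1 T2 T3 := by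
  have h5 : (5 : F) • (1 - T1 - T2 + T3) = 0 := by rw [five0 F, zero_smul]
  unfold E3
  simp only [neg_mul_neg, mul_add, add_mul, mul_sub, sub_mul, mul_one, one_mul, h.i1, h.i2, h.i3, h.m12, h.m21, h.m13,
    h.m31, h.m23, h.m32]
  linear_combination (norm := module) h5

theorem V4.e01 : E0 T1 T2 T3 * E1 T1 T2 T3 = 0 := by
  unfold E0 E1
  simp only [neg_mul_neg, mul_add, add_mul, mul_sub, sub_mul, mul_one, one_mul, h.i1, h.i2, h.i3, h.m12, h.m21, h.m13,
    h.m31, h.m23, h.m32]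
  abel

theorem V4.e10 : E1 T1 T2 T3 * E0 T1 T2 T3 = 0 := by
  unfold E0 E1
  simp only [neg_mul_neg, mul_add, add_mul, mul_sub, sub_mul, mul_one, one_mul, h.i1, h.i2, h.i3, h.m12, h.m21, h.m13,
    h.m31, h.m23, h.m32]
  abel

theorem V4.e02 : E0 T1 T2 T3 * E2 T1 T2 T3 = 0 := by
  unfold E0 E2
  simp only [neg_mul_neg, mul_add, add_mul, mul_sub, sub_mul, mul_one, one_mul, h.i1, h.i2, h.i3, h.m12, h.m21, h.m13,
    h.m31, h.m23, h.m32]
  abel

theorem V4.e20 : E2 T1 T2 T3 * E0 T1 T2 T3 = 0 := by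
  unfold E0 E2
  simp only [neg_mul_neg, mul_add, add_mul, mul_sub, sub_mul, mul_one, one_mul, h.i1, h.i2, h.i3, h.m12, h.m21, h.m13,
    h.m31, h.m23, h.m32]
  abel

theorem V4.e03 : E0 T1 T2 T3 * E3 T1 T2 T3 = 0 := by
  unfold E0 E3
  simp only [neg_mul_neg, mul_add, add_mul, mul_sub, sub_mul, mul_one, one_mul, h.i1, h.i2, h.i3, h.m12, h.m21, h.m13,
    h.m31, h.m23, h.m32]
  abel

theorem V4.e30 : E3 T1 T2 T3 * E0 T1 T2 T3 = 0 := by
  unfold E0 E3
  simp only [neg_mul_neg, mul_add, add_mul, mul_sub, sub_mul, mul_one, one_mul, h.i1, h.i2, h.i3, h.m12, h.m21, h.m13,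
    h.m31, h.m23, h.m32]
  abel

theorem V4.e12 : E1 T1 T2 T3 * E2 T1 T2 T3 = 0 := by
  unfold E1 E2
  simp only [neg_mul_neg, mul_add, add_mul, mul_sub, sub_mul, mul_one, one_mul, h.i1, h.i2, h.i3, h.m12, h.m21, h.m13,
    h.m31, h.m23, h.m32]
  abel

theorem V4.e21 : E2 T1 T2 T3 * E1 T1 T2 T3 = 0 := by
  unfold E1 E2
  simp only [neg_mul_neg, mul_add, add_mul, mul_sub, sub_mul, mul_one, one_mul, h.i1, h.i2, h.i3, h.m12, h.m21, h.m13,
    h.m31, h.m23, h.m32]
  abel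

theorem V4.e13 : E1 T1 T2 T3 * E3 T1 T2 T3 = 0 := by
  unfold E1 E3
  simp only [neg_mul_neg, mul_add, add_mul, mul_sub, sub_mul, mul_one, one_mul, h.i1, h.i2, h.i3, h.m12, h.m21, h.m13,
    h.m31, h.m23, h.m32]
  abel

theorem V4.e31 : E3 T1 T2 T3 * E1 T1 T2 T3 = 0 := by
  unfold E1 E3
  simp only [neg_mul_neg, mul_add, add_mul, mul_sub, sub_mul, mul_one, one_mul, h.i1, h.i2, h.i3, h.m12, h.m21, h.m13,
    h.m31, h.m23, h.m32]
  abel

theorem V4.e23 : E2 T1 T2 T3 * E3 T1 T2 T3 = 0 := by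
  unfold E2 E3
  simp only [neg_mul_neg, mul_add, add_mul, mul_sub, sub_mul, mul_one, one_mul, h.i1, h.i2, h.i3, h.m12, h.m21, h.m13,
    h.m31, h.m23, h.m32]
  abel

theorem V4.e32 : E3 T1 T2 T3 * E2 T1 T2 T3 = 0 := by
  unfold E2 E3
  simp only [neg_mul_neg, mul_add, add_mul, mul_sub, sub_mul, mul_one, one_mul, h.i1, h.i2, h.i3, h.m12, h.m21, h.m13,
    h.m31, h.m23, h.m32]
  abel

omit h in
theorem V4.sum : E0 T1 T2 T3 + E1 T1 T2 T3 + E2 T1 T2 T3 + E3 T1 T2 T3 = 1 := by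
  have h5 : (5 : F) • (1 : End F V) = 0 := by rw [five0 F, zero_smul]
  unfold E0 E1 E2 E3
  linear_combination (norm := module) -h5

theorem V4.rk_sum (hdim : finrank F V = 9) : rk (E0 T1 T2 T3) + rk (E1 T1 T2 T3) + rk (E2 T1 T2 T3) + rk (E3 T1 T2 T3) = 9 := by
  have h1 := rk_add h.e00 h.e11 h.e01 h.e10
  have g1 : (E0 T1 T2 T3 + E1 T1 T2 T3) * (E0 T1 T2 T3 + E1 T1 T2 T3) = E0 T1 T2 T3 + E1 T1 T2 T3 := by
    rw [mul_add, add_mul, add_mul, h.e00, h.e11, h.e01, h.e10]; abel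
  have h2 := rk_add g1 h.e22 (by rw [add_mul, h.e02, h.e12, add_zero]) (by rw [mul_add, h.e20, h.e21, add_zero])
  have g2 : (E0 T1 T2 T3 + E1 T1 T2 T3 + E2 T1 T2 T3) * (E0 T1 T2 T3 + E1 T1 T2 T3 + E2 T1 T2 T3) =
      E0 T1 T2 T3 + E1 T1 T2 T3 + E2 T1 T2 T3 := by
    rw [mul_add _ _ (E2 T1 T2 T3), add_mul _ _ (E0 T1 T2 T3 + E1 T1 T2 T3), g1, add_mul _ _ (E2 T1 T2 T3), h.e22,
      add_mul _ _ (E2 T1 T2 T3), h.e02, h.e12, mul_add (E2 T1 T2 T3), h.e20, h.e21]
    abel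
  have h3 := rk_add g2 h.e33 (by rw [add_mul, add_mul, h.e03, h.e13, h.e23]; abel)
    (by rw [mul_add, mul_add, h.e30, h.e31, h.e32]; abel)
  rw [V4.sum (F := F), rk_one, hdim] at h3
  omega

end idem

end Cfsg.Agent.H793.TA
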