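import Cfsg.Agent.H793.TA.Lin

/-!
# Nine-dimensional representations of perfect central extensions of `A₆` in characteristic five: numbers (helper793)
-/

set_option autoImplicit false
set_option linter.unusedSectionVars false
set_option linter.unusedSimpArgs false

namespace Cfsg.Agent.H793.TA

open Module Equiv Equiv.Perm

variable {F : Type*} [Field F] [CharP F 5] {V : Type*} [AddCommGroup V] [Module F V] [FiniteDimensional F V]

section YS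

/-- the relations of the generators -/
structure Gen (T1 T2 T3 S Y : End F V) : Prop extends V4 T1 T2 T3 where
  ss : S * S = 1
  yyy : Y * (Y * Y) = 1
  y1 : Y * T1 = T3 * Y
  y3 : Y * T3 = T2 * Y
  y2 : Y * T2 = T1 * Y
  s1 : S * T1 = T1 * S
  s2 : S * T2 = T3 * S
  s3 : S * T3 = T2 * S
  sy : S * Y = Y * Y * S

variable {T1 T2 T3 S Y : End F V} (h : Gen T1 T2 T3 S Y)
include h

theorem Gen.ye0 : Y * E0 T1 T2 T3 = E0 T1 T2 T3 * Y := by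
  unfold E0
  simp only [mul_neg, neg_mul, mul_add, add_mul, mul_one, one_mul, h.y1, h.y2, h.y3]
  abel

theorem Gen.ye1 : Y * E1 T1 T2 T3 = E3 T1 T2 T3 * Y := by
  unfold E1 E3
  simp only [mul_neg, neg_mul, mul_add, add_mul, mul_sub, sub_mul, mul_one, one_mul, h.y1, h.y2, h.y3]
  abel

theorem Gen.ye3 : Y * E3 T1 T2 T3 = E2 T1 T2 T3 * Y := by
  unfold E2 E3
  simp only [mul_neg, neg_mul, mul_add, add_mul, mul_sub, sub_mul, mul_one, one_mul, h.y1, h.y2, h.y3]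
  abel

theorem Gen.ye2 : Y * E2 T1 T2 T3 = E1 T1 T2 T3 * Y := by
  unfold E1 E2
  simp only [mul_neg, neg_mul, mul_add, add_mul, mul_sub, sub_mul, mul_one, one_mul, h.y1, h.y2, h.y3]
  abel

theorem Gen.se0 : S * E0 T1 T2 T3 = E0 T1 T2 T3 * S := by
  unfold E0
  simp only [mul_neg, neg_mul, mul_add, add_mul, mul_one, one_mul, h.s1, h.s2, h.s3]
  abel

theorem Gen.se1 : S * E1 T1 T2 T3 = E1 T1 T2 T3 * S := by
  unfold E1
  simp only [mul_neg, neg_mul, mul_add, add_mul, mul_sub, sub_mul, mul_one, one_mul, h.s1, h.s2, h.s3]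
  abel

theorem Gen.yyy' : Y * Y * Y = 1 := by rw [mul_assoc, h.yyy]

theorem Gen.rk3 : rk (E3 T1 T2 T3) = rk (E1 T1 T2 T3) := by
  have h1 := rk_conj (g := Y) (g' := Y * Y) h.yyy' (E1 T1 T2 T3)
  rw [h.ye1, mul_assoc, h.yyy, mul_one] at h1
  exact h1

theorem Gen.rk2 : rk (E2 T1 T2 T3) = rk (E1 T1 T2 T3) := by
  have h1 := rk_conj (g := Y) (g' := Y * Y) h.yyy' (E3 T1 T2 T3)
  rw [h.ye3, mul_assoc, h.yyy, mul_one] at h1
  rw [h1, h.rk3]

theorem Gen.rk_sum' (hdim : finrank F V = 9) : rk (E0 T1 T2 T3) + 3 * rk (E1 T1 T2 T3) = 9 := by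
  have h1 := h.rk_sum hdim
  rw [h.rk2, h.rk3] at h1
  omega

omit h in
/-- the projection onto the fixed points of `A₄` -/
def F0 (T1 T2 T3 Y : End F V) : End F V := (2 : F) • ((1 + Y + Y * Y) * E0 T1 T2 T3)

theorem Gen.f00 : F0 T1 T2 T3 Y * F0 T1 T2 T3 Y = F0 T1 T2 T3 Y := by
  unfold F0
  rw [smul_mul_smul_comm]
  have e1 : (1 + Y + Y * Y) * E0 T1 T2 T3 = E0 T1 T2 T3 * (1 + Y + Y * Y) := by
    rw [add_mul, add_mul, mul_add, mul_add, mul_one, one_mul, h.ye0, mul_assoc Y Y, h.ye0, ← mul_assoc, h.ye0,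
      mul_assoc]
  have e2 : (1 + Y + Y * Y) * (1 + Y + Y * Y) = (3 : F) • (1 + Y + Y * Y) := by
    have e3 : Y * Y * Y = 1 := h.yyy'
    have e4 : Y * Y * (Y * Y) = Y := by rw [← mul_assoc, e3, one_mul]
    simp only [mul_add, add_mul, mul_one, one_mul, h.yyy, e3, e4]
    module
  have e5 : (1 + Y + Y * Y) * E0 T1 T2 T3 * ((1 + Y + Y * Y) * E0 T1 T2 T3) =
      (3 : F) • ((1 + Y + Y * Y) * E0 T1 T2 T3) := by
    calc (1 + Y + Y * Y) * E0 T1 T2 T3 * ((1 + Y + Y * Y) * E0 T1 T2 T3)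
        = (1 + Y + Y * Y) * (E0 T1 T2 T3 * (1 + Y + Y * Y)) * E0 T1 T2 T3 := by noncomm_ring
      _ = (1 + Y + Y * Y) * ((1 + Y + Y * Y) * E0 T1 T2 T3) * E0 T1 T2 T3 := by rw [e1]
      _ = ((1 + Y + Y * Y) * (1 + Y + Y * Y)) * (E0 T1 T2 T3 * E0 T1 T2 T3) := by noncomm_ring
      _ = _ := by rw [e2, h.e00, smul_mul_assoc]
  rw [e5, smul_smul]
  congr 1
  linear_combination 2 * five0 F

theorem Gen.ef0 : F0 T1 T2 T3 Y * E0 T1 T2 T3 = F0 T1 T2 T3 Y := by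
  unfold F0
  rw [smul_mul_assoc, mul_assoc, h.e00]

theorem Gen.comm_y0 : (1 + Y + Y * Y) * E0 T1 T2 T3 = E0 T1 T2 T3 * (1 + Y + Y * Y) := by
  rw [add_mul, add_mul, mul_add, mul_add, mul_one, one_mul, h.ye0, mul_assoc Y Y, h.ye0, ← mul_assoc, h.ye0,
      mul_assoc]

theorem Gen.fe0 : E0 T1 T2 T3 * F0 T1 T2 T3 Y = F0 T1 T2 T3 Y := by
  unfold F0
  rw [mul_smul_comm, h.comm_y0, ← mul_assoc, h.e00]

theorem Gen.f01 : F0 T1 T2 T3 Y * E1 T1 T2 T3 = 0 := by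
  rw [← h.ef0, mul_assoc, h.e01, mul_zero]

theorem Gen.f10 : E1 T1 T2 T3 * F0 T1 T2 T3 Y = 0 := by
  rw [← h.fe0, ← mul_assoc, h.e10, zero_mul]

theorem Gen.sf0 : S * F0 T1 T2 T3 Y = F0 T1 T2 T3 Y * S := by
  unfold F0
  have e3 : Y * Y * Y = 1 := h.yyy'
  have e2 : S * (Y * Y) = Y * S := by
    rw [← mul_assoc, h.sy, mul_assoc, h.sy, ← mul_assoc, ← mul_assoc, e3, one_mul]
  have e1 : S * (1 + Y + Y * Y) = (1 + Y + Y * Y) * S := by
    rw [mul_add, mul_add, add_mul, add_mul, mul_one, one_mul, e2, h.sy]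
    abel
  rw [mul_smul_comm, smul_mul_assoc, ← mul_assoc, e1, mul_assoc, h.se0, mul_assoc]

end YS

section num

variable {P : Type*} [Group P] {π : P →* A6} {ρ : P →* End F V}

omit [CharP F 5] in
theorem tr_of {g x w : P} (hgx : g * x = w * g) : LinearMap.trace F V (ρ w) = LinearMap.trace F V (ρ x) := by
  have h1 : w = g * x * g⁻¹ := by rw [hgx, mul_inv_cancel_right]
  rw [h1, map_mul, LinearMap.trace_mul_comm, ← map_mul, inv_mul_cancel_left]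

variable (h : Rep π ρ) {t1 t2 t3 s y : P} (d : Elt π t1 t2 t3 s y)
include h d

omit h in
theorem gen : Gen (ρ t1) (ρ t2) (ρ t3) (ρ s) (ρ y) := by
  refine ⟨⟨?_, ?_, ?_, ?_, ?_, ?_, ?_, ?_, ?_⟩, ?_, ?_, ?_, ?_, ?_, ?_, ?_, ?_, ?_⟩
  · rw [← map_mul, d.i1, map_one]
  · rw [← map_mul, d.i2, map_one]
  · rw [← map_mul, d.i3, map_one]
  · rw [← map_mul, d.m12]
  · rw [← map_mul, d.m21]
  · rw [← map_mul, d.m13]
  · rw [← map_mul, d.m31]
  · rw [← map_mul, d.m23]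
  · rw [← map_mul, d.m32]
  · rw [← map_mul, d.is, map_one]
  · rw [← map_mul, ← map_mul, d.yyy, map_one]
  · rw [← map_mul, d.y1, map_mul]
  · rw [← map_mul, d.y3, map_mul]
  · rw [← map_mul, d.y2, map_mul]
  · rw [← map_mul, d.s1, map_mul]
  · rw [← map_mul, d.s2, map_mul]
  · rw [← map_mul, d.s3, map_mul]
  · rw [← map_mul, d.sy, map_mul, map_mul]

/-- trace -/
local notation "τ" => LinearMap.trace F V

theorem try0 : τ (ρ y) = 0 := by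
  obtain ⟨g, z, hz, hz1, hg⟩ := d.cy
  obtain ⟨c, hc⟩ := h.sc z hz
  have h1 : g * y = (z * y) * g := by rw [hg, mul_assoc]
  have h2 := tr_of (ρ := ρ) h1
  rw [map_mul, hc, smul_mul_assoc, one_mul, map_smul, smul_eq_mul] at h2
  have h3 : (c - 1) * τ (ρ y) = 0 := by linear_combination h2
  rcases mul_eq_zero.1 h3 with h4 | h4
  · exfalso
    apply hz1
    apply h.inj
    rw [hc, sub_eq_zero.1 h4, one_smul, map_one]
  · exact h4

omit h in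
theorem trt2 : τ (ρ t2) = τ (ρ t1) := (tr_of d.y2).symm

omit h in
theorem trt3 : τ (ρ t3) = τ (ρ t1) := tr_of d.y1

omit h in
theorem trs : τ (ρ s) = τ (ρ t1) := by
  obtain ⟨g, hg⟩ := d.cj
  exact tr_of hg.symm

theorem tryy : τ (ρ (y * y)) = 0 := by
  rw [tr_of (g := s) (x := y) d.sy, try0 h d]

theorem tryt1 : τ (ρ (y * t1)) = 0 := by
  rw [tr_of (g := t2) (x := y) (by rw [mul_assoc, d.m12, d.y3]), try0 h d]

theorem tryt2 : τ (ρ (y * t2)) = 0 := by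
  rw [tr_of (g := t3) (x := y) (by rw [mul_assoc, d.m23, d.y1]), try0 h d]

theorem tryt3 : τ (ρ (y * t3)) = 0 := by
  rw [tr_of (g := t1) (x := y) (by rw [mul_assoc, d.m31, d.y2]), try0 h d]

theorem tryyt1 : τ (ρ (y * y * t1)) = 0 := by
  rw [tr_of (g := t3) (x := y * y) (by
    rw [mul_assoc _ t1, d.m13, mul_assoc, d.y2, ← mul_assoc y, d.y1, mul_assoc]), tryy h d]

theorem tryyt2 : τ (ρ (y * y * t2)) = 0 := by
  rw [tr_of (g := t1) (x := y * y) (by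
    rw [mul_assoc _ t2, d.m21, mul_assoc, d.y3, ← mul_assoc y, d.y2, mul_assoc]), tryy h d]

theorem tryyt3 : τ (ρ (y * y * t3)) = 0 := by
  rw [tr_of (g := t2) (x := y * y) (by
    rw [mul_assoc _ t3, d.m32, mul_assoc, d.y1, ← mul_assoc y, d.y3, mul_assoc]), tryy h d]

omit h in
theorem trst1 : τ (ρ (s * t1)) = τ (ρ t1) := by
  rw [tr_of (g := t2) (x := s) (by rw [mul_assoc, d.m12, d.s3]), trs d]

/-- `tr e₀` -/
theorem tre0 : τ (E0 (ρ t1) (ρ t2) (ρ t3)) = -(9 + 3 * τ (ρ t1)) := by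
  unfold E0
  rw [map_neg, map_add, map_add, map_add, LinearMap.trace_one, h.dim, trt2 d, trt3 d]
  push_cast
  ring

theorem tre1 : τ (E1 (ρ t1) (ρ t2) (ρ t3)) = -(9 - τ (ρ t1)) := by
  unfold E1
  rw [map_neg, map_sub, map_sub, map_add, LinearMap.trace_one, h.dim, trt2 d, trt3 d]
  push_cast
  ring

theorem trf0 : τ (F0 (ρ t1) (ρ t2) (ρ t3) (ρ y)) = 2 * τ (E0 (ρ t1) (ρ t2) (ρ t3)) := by
  have e1 : ρ y * E0 (ρ t1) (ρ t2) (ρ t3) = -(ρ y + ρ (y * t1) + ρ (y * t2) + ρ (y * t3)) := by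
    unfold E0
    rw [mul_neg, mul_add, mul_add, mul_add, mul_one, map_mul, map_mul, map_mul]
  have e2 : ρ y * ρ y * E0 (ρ t1) (ρ t2) (ρ t3) =
      -(ρ (y * y) + ρ (y * y * t1) + ρ (y * y * t2) + ρ (y * y * t3)) := by
    unfold E0
    rw [mul_neg, mul_add, mul_add, mul_add, mul_one, map_mul _ (y * y), map_mul _ (y * y), map_mul _ (y * y), map_mul]
  unfold F0
  rw [map_smul, smul_eq_mul, add_mul, add_mul, one_mul, map_add, map_add, e1, e2, map_neg, map_neg]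
  simp only [map_add]
  rw [try0 h d, tryy h d, tryt1 h d, tryt2 h d, tryt3 h d, tryyt1 h d, tryyt2 h d, tryyt3 h d]
  ring

theorem trsf : τ (ρ s * (E1 (ρ t1) (ρ t2) (ρ t3) + F0 (ρ t1) (ρ t2) (ρ t3) (ρ y))) = τ (ρ t1) := by
  have g := gen (ρ := ρ) d
  have h5 := five0 F
  -- `tr (S Y e₀) = tr (S e₀)`
  have k1 : y * s = s * y * y := by
    rw [d.sy]
    calc y * s = (y * (y * y)) * (y * s) := by rw [d.yyy, one_mul]
      _ = y * y * (y * y * s) := by simp only [mul_assoc]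
      _ = y * y * (s * y) := by rw [d.sy]
      _ = _ := by simp only [mul_assoc]
  have g1 : ρ y * ρ s = ρ s * ρ y * ρ y := by rw [← map_mul, k1, map_mul, map_mul]
  set e0 := E0 (ρ t1) (ρ t2) (ρ t3) with he0
  have k2 : τ (ρ s * (ρ y * e0)) = τ (ρ s * e0) := by
    -- `S Y = Y S Y⁻¹`
    have k3 : ρ s * (ρ y * e0) = ρ y * (ρ s * e0) * (ρ y * ρ y) := by
      have k4 : ρ s * ρ y = ρ y * ρ s * (ρ y * ρ y) := by
        rw [g1]
        calc ρ s * ρ y = ρ s * ρ y * (ρ y * (ρ y * ρ y)) := by rw [g.yyy, mul_one]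
          _ = _ := by noncomm_ring
      calc ρ s * (ρ y * e0) = (ρ s * ρ y) * e0 := by noncomm_ring
        _ = ρ y * ρ s * (ρ y * ρ y) * e0 := by rw [k4]
        _ = ρ y * ρ s * (ρ y * (ρ y * e0)) := by noncomm_ring
        _ = ρ y * ρ s * (ρ y * (e0 * ρ y)) := by rw [g.ye0]
        _ = ρ y * ρ s * ((ρ y * e0) * ρ y) := by noncomm_ring
        _ = ρ y * ρ s * ((e0 * ρ y) * ρ y) := by rw [g.ye0]
        _ = _ := by noncomm_ring
    rw [k3, LinearMap.trace_mul_comm, ← mul_assoc, g.yyy', one_mul]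
  have k5 : τ (ρ s * (ρ y * ρ y * e0)) = τ (ρ s * e0) := by
    have k6 : ρ s * (ρ y * ρ y) = ρ y * ρ s := by rw [g1, mul_assoc]
    have k7 : ρ y * ρ s = (ρ y * ρ y) * ρ s * ρ y := by
      calc ρ y * ρ s = ρ y * (ρ s * ρ y * ρ y * ρ y) := by rw [mul_assoc, mul_assoc, g.yyy, mul_one]
        _ = ρ y * (ρ s * ρ y * ρ y) * ρ y := by noncomm_ring
        _ = ρ y * (ρ y * ρ s) * ρ y := by rw [g1]
        _ = _ := by noncomm_ring
    have k3 : ρ s * (ρ y * ρ y * e0) = (ρ y * ρ y) * (ρ s * e0) * ρ y := by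
      calc ρ s * (ρ y * ρ y * e0) = (ρ s * (ρ y * ρ y)) * e0 := by noncomm_ring
        _ = (ρ y * ρ y) * ρ s * (ρ y * e0) := by rw [k6, k7]; noncomm_ring
        _ = (ρ y * ρ y) * ρ s * (e0 * ρ y) := by rw [g.ye0]
        _ = _ := by noncomm_ring
    rw [k3, LinearMap.trace_mul_comm, ← mul_assoc, g.yyy, one_mul]
  have k8 : τ (ρ s * F0 (ρ t1) (ρ t2) (ρ t3) (ρ y)) = τ (ρ s * e0) := by
    unfold F0
    rw [← he0, mul_smul_comm, map_smul, smul_eq_mul, add_mul, add_mul, one_mul, mul_add, mul_add, map_add, map_add, k2, k5]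
    linear_combination τ (ρ s * e0) * h5
  have k9 : e0 + E1 (ρ t1) (ρ t2) (ρ t3) = -((2 : F) • (1 + ρ t1)) := by
    rw [he0]
    unfold E0 E1
    module
  rw [mul_add, map_add, k8, ← map_add, ← mul_add, add_comm, k9, mul_neg, map_neg, mul_smul_comm, map_smul, mul_add,
    mul_one, map_add, ← map_mul, trst1 d, trs d, smul_eq_mul]
  linear_combination (-τ (ρ t1)) * h5

omit [FiniteDimensional F V] h d in
theorem cast_mod {a b : ℕ} (h : (a : F) = (b : F)) : a % 5 = b % 5 := (CharP.natCast_eq_natCast F 5).1 h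

/-- **The multiplicities.** -/
theorem cases :
    (rk (E1 (ρ t1) (ρ t2) (ρ t3)) = 2 ∧ rk (E0 (ρ t1) (ρ t2) (ρ t3)) = 3 ∧ rk (F0 (ρ t1) (ρ t2) (ρ t3) (ρ y)) = 1) ∨
      (E0 (ρ t1) (ρ t2) (ρ t3) = 0 ∧ ρ s * E1 (ρ t1) (ρ t2) (ρ t3) = -E1 (ρ t1) (ρ t2) (ρ t3)) := by
  have g := gen (ρ := ρ) d
  have n1 := g.rk_sum' h.dim
  have n2 := trace_idem g.e11
  have n3 := trace_idem g.e00
  have n4 := trace_idem g.f00
  have n5 : rk (F0 (ρ t1) (ρ t2) (ρ t3) (ρ y)) ≤ rk (E0 (ρ t1) (ρ t2) (ρ t3)) := by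
    calc rk (F0 (ρ t1) (ρ t2) (ρ t3) (ρ y)) = rk (F0 (ρ t1) (ρ t2) (ρ t3) (ρ y) * E0 (ρ t1) (ρ t2) (ρ t3)) := by
          rw [g.ef0]
      _ ≤ _ := rk_mul_le_right _ _
  rw [tre1 h d] at n2
  rw [trf0 h d, n3] at n4
  have hg2 : (E1 (ρ t1) (ρ t2) (ρ t3) + F0 (ρ t1) (ρ t2) (ρ t3) (ρ y)) *
      (E1 (ρ t1) (ρ t2) (ρ t3) + F0 (ρ t1) (ρ t2) (ρ t3) (ρ y)) =
      E1 (ρ t1) (ρ t2) (ρ t3) + F0 (ρ t1) (ρ t2) (ρ t3) (ρ y) := by
    rw [mul_add, add_mul, add_mul, g.e11, g.f01, g.f10, g.f00]; abel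
  have hsg : ρ s * (E1 (ρ t1) (ρ t2) (ρ t3) + F0 (ρ t1) (ρ t2) (ρ t3) (ρ y)) =
      (E1 (ρ t1) (ρ t2) (ρ t3) + F0 (ρ t1) (ρ t2) (ρ t3) (ρ y)) * ρ s := by
    rw [mul_add, add_mul, g.se1, g.sf0]
  have hq := half_idem g.ss hg2 hsg
  have n6 := trace_idem hq
  have n7 : rk (E1 (ρ t1) (ρ t2) (ρ t3) + F0 (ρ t1) (ρ t2) (ρ t3) (ρ y)) =
      rk (E1 (ρ t1) (ρ t2) (ρ t3)) + rk (F0 (ρ t1) (ρ t2) (ρ t3) (ρ y)) := rk_add g.e11 g.f00 g.f10 g.f01
  have n8 : rk ((3 : F) • ((1 + ρ s) * (E1 (ρ t1) (ρ t2) (ρ t3) + F0 (ρ t1) (ρ t2) (ρ t3) (ρ y)))) ≤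
      rk (E1 (ρ t1) (ρ t2) (ρ t3) + F0 (ρ t1) (ρ t2) (ρ t3) (ρ y)) := by
    rw [← smul_mul_assoc]
    exact rk_mul_le_right _ _
  have n9 : LinearMap.trace F V ((3 : F) • ((1 + ρ s) * (E1 (ρ t1) (ρ t2) (ρ t3) + F0 (ρ t1) (ρ t2) (ρ t3) (ρ y)))) =
      3 * (rk (E1 (ρ t1) (ρ t2) (ρ t3)) + rk (F0 (ρ t1) (ρ t2) (ρ t3) (ρ y)) + LinearMap.trace F V (ρ t1)) := by
    rw [map_smul, smul_eq_mul, add_mul, one_mul, map_add, trsf h d, map_add, trace_idem g.e11, trace_idem g.f00]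
  rw [n9] at n6
  have m1 : (rk (F0 (ρ t1) (ρ t2) (ρ t3) (ρ y)) : F) = ((2 * rk (E0 (ρ t1) (ρ t2) (ρ t3)) : ℕ) : F) := by
    push_cast
    exact n4.symm
  have m2 : (rk ((3 : F) • ((1 + ρ s) * (E1 (ρ t1) (ρ t2) (ρ t3) + F0 (ρ t1) (ρ t2) (ρ t3) (ρ y)))) : F) =
      ((3 * (2 * rk (E1 (ρ t1) (ρ t2) (ρ t3)) + rk (F0 (ρ t1) (ρ t2) (ρ t3) (ρ y)) + 9) : ℕ) : F) := by
    push_cast
    rw [← n6]
    linear_combination 3 * n2
  have m1' := cast_mod m1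
  have m2' := cast_mod m2
  have hne : rk (E1 (ρ t1) (ρ t2) (ρ t3)) ≠ 0 := by
    intro h0
    have h1 := eq_zero_of_rk h0
    have h2 : E3 (ρ t1) (ρ t2) (ρ t3) = 0 := eq_zero_of_rk (by rw [g.rk3, h0])
    have h3 : E2 (ρ t1) (ρ t2) (ρ t3) = 0 := eq_zero_of_rk (by rw [g.rk2, h0])
    -- `t1 = 1`
    have h4 : E2 (ρ t1) (ρ t2) (ρ t3) + E3 (ρ t1) (ρ t2) (ρ t3) = (2 : F) • (ρ t1 - 1) := by
      unfold E2 E3
      module
    rw [h2, h3, add_zero] at h4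
    have h20 : (2 : F) ≠ 0 := by
      intro h2
      have := cast_mod (F := F) (a := 2) (b := 0) (by simpa using h2)
      omega
    have h5 : ρ t1 - 1 = 0 := (smul_eq_zero.1 h4.symm).resolve_left h20
    have h6 : t1 = 1 := h.inj (by rw [map_one]; exact sub_eq_zero.1 h5)
    have h7 := d.q1
    rw [h6, map_one] at h7
    revert h7
    decide
  have hr : rk (E1 (ρ t1) (ρ t2) (ρ t3)) = 2 ∨ rk (E1 (ρ t1) (ρ t2) (ρ t3)) = 3 := by omega
  rcases hr with hr | hr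
  · left
    omega
  · right
    have h0 : rk (E0 (ρ t1) (ρ t2) (ρ t3)) = 0 := by omega
    have hf0 : rk (F0 (ρ t1) (ρ t2) (ρ t3) (ρ y)) = 0 := by omega
    have hq0 : rk ((3 : F) • ((1 + ρ s) * (E1 (ρ t1) (ρ t2) (ρ t3) + F0 (ρ t1) (ρ t2) (ρ t3) (ρ y)))) = 0 := by
      omega
    refine ⟨eq_zero_of_rk h0, ?_⟩
    have h1 := eq_zero_of_rk hq0
    have h30 : (3 : F) ≠ 0 := by
      intro h2
      have := cast_mod (F := F) (a := 3) (b := 0) (by simpa using h2)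
      omega
    have h2 := (smul_eq_zero.1 h1).resolve_left h30
    rw [eq_zero_of_rk hf0, add_zero, add_mul, one_mul, add_comm] at h2
    exact eq_neg_of_add_eq_zero_left h2

end num

end Cfsg.Agent.H793.TA
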