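import Cfsg.Agent.H793.TA.KGrp

/-!
# Modules for the complement `K`: vectors fixed by the stabilizer of a point (helper793)
-/

set_option autoImplicit false
set_option linter.unusedSectionVars false

namespace Cfsg.Agent.H793.TA

open Module Equiv Equiv.Perm

set_option maxRecDepth 100000 in
theorem dec_trans : ∀ j : Fin 6, ∃ g : Perm (Fin 6), sign g = 1 ∧ g 5 = j := by decide +kernel

/-- lifts of the involutions `ak j` -/
structure Lf {P : Type*} [Group P] (π : P →* A6) (k : Fin 6 → P) : Prop where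
  p : ∀ j, π (k j) = ak j
  sq : ∀ j, k j * k j = 1

theorem Ext.exists_lf {P : Type*} [Group P] {π : P →* A6} (h : Ext π) : ∃ k : Fin 6 → P, Lf π k := by
  choose k hk using fun j => h.exists_sq (ak_sq j)
  exact ⟨k, fun j => (hk j).1, fun j => (hk j).2⟩

variable {F : Type*} [Field F] [CharP F 5]
  {P : Type*} [Group P] {π : P →* A6} (h : Ext π) {k : Fin 6 → P} (hk : Lf π k)

theorem Lf.mem (hk : Lf π k) (j : Fin 6) : k j ∈ K π := mem_K (hk.sq j) (by rw [hk.p]; exact ak_five j)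

theorem Lf.four (hk : Lf π k) {j : Fin 6} (hj : j ≠ 5) : (π (k j) : Perm (Fin 6)) 4 = j := by
  rw [hk.p]; exact ak_four j hj

include h in
theorem Lf.k4 (hk : Lf π k) : k 4 = 1 := h.eq_of_sq (hk.sq 4) (one_mul 1) (by rw [hk.p, map_one]; decide)

/-- the equivariance -/
theorem Lf.step (hk : Lf π k) {x : P} (hx : x ∈ K π) {j : Fin 6} (hj : j ≠ 5) :
    ∃ w ∈ K π, (π w : Perm (Fin 6)) 4 = 4 ∧ x * k j = k ((π x : Perm (Fin 6)) j) * w := by
  have hx5 : (π x : Perm (Fin 6)) 5 = 5 := K_le_Q hx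
  have hj' : (π x : Perm (Fin 6)) j ≠ 5 := fun h1 => hj ((π x : Perm (Fin 6)).injective (h1.trans hx5.symm))
  refine ⟨k ((π x : Perm (Fin 6)) j) * (x * k j), mul_mem (hk.mem _) (mul_mem hx (hk.mem _)), ?_, ?_⟩
  · rw [map_mul, map_mul]
    show (π (k ((π x : Perm (Fin 6)) j)) : Perm (Fin 6)) ((π x : Perm (Fin 6)) ((π (k j) : Perm (Fin 6)) 4)) = 4
    rw [hk.four hj]
    have h1 : (π (k ((π x : Perm (Fin 6)) j)) : Perm (Fin 6)) 4 = (π x : Perm (Fin 6)) j := hk.four hj'
    have h2 : (π (k ((π x : Perm (Fin 6)) j)) : Perm (Fin 6)) ((π (k ((π x : Perm (Fin 6)) j)) : Perm (Fin 6)) 4) = 4 := by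
      have h3 : π (k ((π x : Perm (Fin 6)) j)) * π (k ((π x : Perm (Fin 6)) j)) = 1 := by
        rw [← map_mul, hk.sq, map_one]
      exact congrArg (fun g : A6 => (g : Perm (Fin 6)) 4) h3
    rw [h1] at h2
    exact h2
  · rw [← mul_assoc (k _) (k _), hk.sq, one_mul]

section module

variable {W : Type*} [AddCommGroup W] [Module F W] (σ : P →* End F W)
  (hno : ∀ w : W, (∀ x ∈ K π, σ x w = w) → w = 0) {w4 : W} (hw4 : w4 ≠ 0)
  (hfix : ∀ x ∈ K π, (π x : Perm (Fin 6)) 4 = 4 → σ x w4 = w4)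

include hk hfix in
theorem pt_equiv {x : P} (hx : x ∈ K π) {j : Fin 6} (hj : j ≠ 5) :
    σ x (σ (k j) w4) = σ (k ((π x : Perm (Fin 6)) j)) w4 := by
  obtain ⟨w, hw, hw1, hw2⟩ := hk.step hx hj
  rw [← Module.End.mul_apply, ← map_mul, hw2, map_mul, Module.End.mul_apply, hfix w hw hw1]

include hk hfix hno in
theorem pt_sum : σ (k 0) w4 + σ (k 1) w4 + σ (k 2) w4 + σ (k 3) w4 + σ (k 4) w4 = 0 := by
  have h1 : ∑ j ∈ Finset.univ.erase (5 : Fin 6), σ (k j) w4 = 0 := by
    apply hno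
    intro x hx
    have hx5 : (π x : Perm (Fin 6)) 5 = 5 := K_le_Q hx
    rw [map_sum]
    have h2 : ∑ j ∈ Finset.univ.erase (5 : Fin 6), σ x (σ (k j) w4) =
        ∑ j ∈ Finset.univ.erase (5 : Fin 6), σ (k ((π x : Perm (Fin 6)) j)) w4 :=
      Finset.sum_congr rfl fun j hj => pt_equiv hk σ hfix hx (Finset.ne_of_mem_erase hj)
    rw [h2]
    apply Finset.sum_equiv (π x : Perm (Fin 6))
    · intro i
      simp only [Finset.mem_erase, Finset.mem_univ, and_true]
      constructor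
      · intro hi h3
        exact hi ((π x : Perm (Fin 6)).injective (h3.trans hx5.symm))
      · intro hi h3
        rw [h3, hx5] at hi
        exact hi rfl
    · intro i _
      rfl
  have h2 : Finset.univ.erase (5 : Fin 6) = {0, 1, 2, 3, 4} := by decide
  rw [h2] at h1
  rw [Finset.sum_insert (by decide), Finset.sum_insert (by decide), Finset.sum_insert (by decide),
    Finset.sum_insert (by decide), Finset.sum_singleton] at h1
  rw [← h1]; abel

include h hk hfix hno hw4 in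
theorem pt_ne : σ (k 0) w4 + σ (k 1) w4 - σ (k 2) w4 - σ (k 3) w4 ≠ 0 := by
  intro h0
  obtain ⟨y, hy, hy1⟩ := exists_K h (g := c1) (by decide)
  have e : ∀ j : Fin 6, j ≠ 5 → σ y (σ (k j) w4) = σ (k ((c1 : Perm (Fin 6)) j)) w4 := by
    intro j hj
    have := pt_equiv hk σ hfix hy hj
    rw [hy1] at this
    exact this
  have e0 : σ y (σ (k 0) w4) = σ (k 1) w4 := e 0 (by decide)
  have e1 : σ y (σ (k 1) w4) = σ (k 2) w4 := e 1 (by decide)
  have e2 : σ y (σ (k 2) w4) = σ (k 0) w4 := e 2 (by decide)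
  have e3 : σ y (σ (k 3) w4) = σ (k 3) w4 := e 3 (by decide)
  have h1 : σ (k 1) w4 + σ (k 2) w4 - σ (k 0) w4 - σ (k 3) w4 = 0 := by
    have := congrArg (σ y) h0
    rw [map_sub, map_sub, map_add, e0, e1, e2, e3, map_zero] at this
    exact this
  have h2 : σ (k 2) w4 + σ (k 0) w4 - σ (k 1) w4 - σ (k 3) w4 = 0 := by
    have := congrArg (σ y) h1
    rw [map_sub, map_sub, map_add, e0, e1, e2, e3, map_zero] at this
    exact this
  have hs := pt_sum hk σ hno hfix
  set a0 := σ (k 0) w4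
  set a1 := σ (k 1) w4
  set a2 := σ (k 2) w4
  set a3 := σ (k 3) w4
  have h4 : σ (k 4) w4 = w4 := by rw [hk.k4 h, map_one]; rfl
  rw [h4] at hs
  have f5 : ∀ v : W, (5 : F) • v = 0 := fun v => by rw [five0 F, zero_smul]
  have g1 : a0 = a2 := by
    have := f5 (a0 - a2)
    linear_combination (norm := module) (3 : F) • h0 - (3 : F) • h1 - this
  have g2 : a0 = a1 := by
    have := f5 (a0 - a1)
    linear_combination (norm := module) (3 : F) • h2 - (3 : F) • h1 - this
  have g3 : a0 = a3 := by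
    rw [← g1, ← g2] at h0
    linear_combination (norm := module) h0
  have g4 : w4 = a0 := by
    rw [← g1, ← g2, ← g3] at hs
    have := f5 a0
    linear_combination (norm := module) hs - this
  apply hw4
  apply hno
  intro x hx
  have hx5 : (π x : Perm (Fin 6)) 5 = 5 := K_le_Q hx
  have h5 := pt_equiv hk σ hfix hx (j := 4) (by decide)
  rw [h4] at h5
  rw [h5]
  have h6 : (π x : Perm (Fin 6)) 4 ≠ 5 := by
    intro h7
    have : (4 : Fin 6) = 5 := (π x : Perm (Fin 6)).injective (h7.trans hx5.symm)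
    exact absurd this (by decide)
  have h7 : ∀ j : Fin 6, j ≠ 5 → σ (k j) w4 = w4 := by
    intro j hj
    fin_cases j
    · exact g4.symm
    · exact g2.symm.trans g4.symm
    · exact g1.symm.trans g4.symm
    · exact g3.symm.trans g4.symm
    · exact h4
    · exact absurd rfl hj
  exact h7 _ h6

end module

section nofix

variable {V : Type*} [AddCommGroup V] [Module F V] [FiniteDimensional F V] {ρ : P →* End F V}

omit [CharP F 5] in
theorem Rep.noFix (h : Rep π ρ) {v : V} (hv : ∀ x ∈ K π, ρ x v = v) : v = 0 := by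
  by_contra hv0
  have hr : ∀ j : Fin 6, ∃ r : P, (π r : Perm (Fin 6)) 5 = j := by
    intro j
    obtain ⟨g, hg, hg5⟩ := dec_trans j
    obtain ⟨r, hr⟩ := h.surj ⟨g, mem_alternatingGroup.2 hg⟩
    exact ⟨r, by rw [hr]; exact hg5⟩
  choose r hr using hr
  let W := Submodule.span F (Set.range fun j => ρ (r j) v)
  have h1 : ∀ g : P, ρ g v ∈ W := by
    intro g
    set j := (π g : Perm (Fin 6)) 5 with hj
    have hQ : (π ((r j)⁻¹ * g) : Perm (Fin 6)) 5 = 5 := by
      rw [map_mul, map_inv]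
      show (π (r j) : Perm (Fin 6))⁻¹ ((π g : Perm (Fin 6)) 5) = 5
      have e1 : ∀ (σ : Perm (Fin 6)) (x : Fin 6), σ⁻¹ (σ x) = x := fun σ x => σ.symm_apply_apply x
      rw [← hj]
      calc (π (r j) : Perm (Fin 6))⁻¹ j = (π (r j) : Perm (Fin 6))⁻¹ ((π (r j) : Perm (Fin 6)) 5) := by rw [hr]
        _ = 5 := e1 _ _
    obtain ⟨x, hx, hx1⟩ := exists_K h.toExt hQ
    have h2 : π (x⁻¹ * ((r j)⁻¹ * g)) = 1 := by rw [map_mul, map_inv, hx1, inv_mul_cancel]
    obtain ⟨c, hc⟩ := h.sc _ h2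
    have h3 : g = r j * x * (x⁻¹ * ((r j)⁻¹ * g)) := by group
    have h4 : ρ g v = c • ρ (r j) v := by
      rw [h3, map_mul, map_mul, hc, mul_smul_comm, mul_one, LinearMap.smul_apply, Module.End.mul_apply, hv x hx]
    rw [h4]
    exact W.smul_mem _ (Submodule.subset_span ⟨j, rfl⟩)
  have h2 : ∀ A : End F V, A v ∈ W := by
    intro A
    have hA : A ∈ Submodule.span F (Set.range ρ) := by rw [h.span]; trivial
    induction hA using Submodule.span_induction with
    | mem x hx => obtain ⟨g, rfl⟩ := hx; exact h1 g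
    | zero => exact W.zero_mem
    | add x y _ _ hx hy => exact W.add_mem hx hy
    | smul a x _ hx => exact W.smul_mem _ hx
  obtain ⟨φ, hφ⟩ := Module.Projective.exists_dual_eq_one F hv0
  have h3 : W = ⊤ := by
    rw [eq_top_iff]
    intro w _
    have h4 := h2 (φ.smulRight w)
    rw [LinearMap.smulRight_apply, hφ, one_smul] at h4
    exact h4
  have h4 : finrank F W ≤ Fintype.card (Fin 6) := finrank_range_le_card _
  rw [h3, finrank_top, h.dim, Fintype.card_fin] at h4
  omega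

omit [CharP F 5] in
theorem Rep.noFix' (h : Rep π ρ) {l : Dual F V} (hv : ∀ x ∈ K π, l ∘ₗ ρ x = l) : l = 0 := by
  by_contra hv0
  have hr : ∀ j : Fin 6, ∃ r : P, (π r : Perm (Fin 6)) 5 = j := by
    intro j
    obtain ⟨g, hg, hg5⟩ := dec_trans j
    obtain ⟨r, hr⟩ := h.surj ⟨g, mem_alternatingGroup.2 hg⟩
    exact ⟨r, by rw [hr]; exact hg5⟩
  choose r hr using hr
  let W : Submodule F (Dual F V) := Submodule.span F (Set.range fun j => l ∘ₗ ρ (r j)⁻¹)
  have h1 : ∀ g : P, l ∘ₗ ρ g ∈ W := by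
    intro g
    set j := (π g : Perm (Fin 6))⁻¹ 5 with hj
    have hgj : (π g : Perm (Fin 6)) j = 5 := (π g : Perm (Fin 6)).apply_symm_apply 5
    have hQ : (π (g * r j) : Perm (Fin 6)) 5 = 5 := by
      rw [map_mul]
      show (π g : Perm (Fin 6)) ((π (r j) : Perm (Fin 6)) 5) = 5
      rw [hr, hgj]
    obtain ⟨x, hx, hx1⟩ := exists_K h.toExt hQ
    have h2 : π (x⁻¹ * (g * r j)) = 1 := by rw [map_mul, map_inv, hx1, inv_mul_cancel]
    obtain ⟨c, hc⟩ := h.sc _ h2
    have h3 : g = x * (x⁻¹ * (g * r j)) * (r j)⁻¹ := by group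
    have h4 : l ∘ₗ ρ g = c • (l ∘ₗ ρ (r j)⁻¹) := by
      have h5 : l ∘ₗ (ρ x * (c • (1 : End F V)) * ρ (r j)⁻¹) = c • ((l ∘ₗ ρ x) ∘ₗ ρ (r j)⁻¹) := by
        ext w
        simp
      conv_lhs => rw [h3, map_mul, map_mul, hc, h5, hv x hx]
    rw [h4]
    exact W.smul_mem _ (Submodule.subset_span ⟨j, rfl⟩)
  have h2 : ∀ A : End F V, l ∘ₗ A ∈ W := by
    intro A
    have hA : A ∈ Submodule.span F (Set.range ρ) := by rw [h.span]; trivial
    induction hA using Submodule.span_induction with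
    | mem x hx => obtain ⟨g, rfl⟩ := hx; exact h1 g
    | zero => rw [LinearMap.comp_zero]; exact W.zero_mem
    | add x y _ _ hx hy => rw [LinearMap.comp_add]; exact W.add_mem hx hy
    | smul a x _ hx => rw [LinearMap.comp_smul]; exact W.smul_mem _ hx
  obtain ⟨v, hv1⟩ : ∃ v, l v = 1 := by
    obtain ⟨v, hv1⟩ : ∃ v, l v ≠ 0 := by
      by_contra hcon
      push Not at hcon
      exact hv0 (LinearMap.ext hcon)
    exact ⟨(l v)⁻¹ • v, by rw [map_smul, smul_eq_mul, inv_mul_cancel₀ hv1]⟩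
  have h3 : W = ⊤ := by
    rw [eq_top_iff]
    intro l' _
    have h4 := h2 (LinearMap.smulRight l' v)
    have h5 : l ∘ₗ LinearMap.smulRight l' v = l' := by
      ext w
      simp [hv1]
    rw [h5] at h4
    exact h4
  have h4 : finrank F W ≤ Fintype.card (Fin 6) := finrank_range_le_card _
  rw [h3, finrank_top, Subspace.dual_finrank_eq, h.dim, Fintype.card_fin] at h4
  omega

end nofix

end Cfsg.Agent.H793.TA
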