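import Cfsg.Agent.H793.TA.Num

/-!
# Nine-dimensional representations of perfect central extensions of `A₆` in characteristic five: the case `V₀ = 0` (helper793)
-/

set_option autoImplicit false
set_option linter.unusedSectionVars false

namespace Cfsg.Agent.H793.TA

open Module Equiv Equiv.Perm

set_option maxRecDepth 100000 in
theorem dec_card5 : Fintype.card {g : Perm (Fin 6) // sign g = 1 ∧ g 5 = 5} = 60 := by decide +kernel

/-- involutions (and `1`) fixing `5`, moving `4` to `j` -/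
def kk (j : Fin 6) : Perm (Fin 6) :=
  if j = 0 then swap 4 0 * swap 1 2 else if j = 1 then swap 4 1 * swap 0 2 else if j = 2 then swap 4 2 * swap 0 1
  else if j = 3 then swap 4 3 * swap 0 1 else 1

theorem kk_sign (j : Fin 6) : sign (kk j) = 1 := by
  revert j
  decide

/-- the same in `A₆` -/
def ak (j : Fin 6) : A6 := ⟨kk j, mem_alternatingGroup.2 (kk_sign j)⟩

theorem ak_sq (j : Fin 6) : ak j * ak j = 1 := by revert j; decide

theorem ak_five (j : Fin 6) : (ak j : Perm (Fin 6)) 5 = 5 := by revert j; decide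

theorem ak_four (j : Fin 6) (hj : j ≠ 5) : (ak j : Perm (Fin 6)) 4 = j := by revert j; decide

variable {F : Type*} [Field F] [CharP F 5] {V : Type*} [AddCommGroup V] [Module F V] [FiniteDimensional F V]
  {P : Type*} [Group P] {π : P →* A6} {ρ : P →* End F V} (h : Rep π ρ) {t1 t2 t3 s y : P}
  (d : Elt π t1 t2 t3 s y)

variable (π ρ) in
/-- the span of the preimage of `A₅` -/
def Sp : Submodule F (End F V) := Submodule.span F (ρ '' {g : P | (π g : Perm (Fin 6)) 5 = 5})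

omit [CharP F 5] [FiniteDimensional F V] in
theorem Sp_mul {a b : End F V} (ha : a ∈ Sp π ρ) (hb : b ∈ Sp π ρ) : a * b ∈ Sp π ρ := by
  have h1 : Sp π ρ * Sp π ρ ≤ Sp π ρ := by
    unfold Sp
    rw [Submodule.span_mul_span]
    apply Submodule.span_mono
    rintro _ ⟨_, ⟨x, hx, rfl⟩, _, ⟨z, hz, rfl⟩, rfl⟩
    refine ⟨x * z, ?_, map_mul _ _ _⟩
    rw [Set.mem_ofPred_eq] at hx hz ⊢
    rw [map_mul]
    show (π x : Perm (Fin 6)) ((π z : Perm (Fin 6)) 5) = 5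
    rw [hz, hx]
  exact h1 (Submodule.mul_mem_mul ha hb)

omit [CharP F 5] [FiniteDimensional F V] in
theorem mem_Sp {g : P} (hg : (π g : Perm (Fin 6)) 5 = 5) : ρ g ∈ Sp π ρ := Submodule.subset_span ⟨g, hg, rfl⟩

omit [CharP F 5] [FiniteDimensional F V] in
/-- double cosets -/
theorem Sp_eq_top (h : Rep π ρ) {s : P} (hs : ρ s ∈ Sp π ρ) (h4 : (π s : Perm (Fin 6)) 5 = 4) : Sp π ρ = ⊤ := by
  rw [eq_top_iff, ← h.span, Submodule.span_le]
  rintro _ ⟨g, rfl⟩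
  by_cases hg : (π g : Perm (Fin 6)) 5 = 5
  · exact mem_Sp hg
  · obtain ⟨k, hk⟩ := h.surj (ak ((π g : Perm (Fin 6)) 5))
    have hk5 : (π k : Perm (Fin 6)) 5 = 5 := by rw [hk]; exact ak_five _
    have hk4 : (π k : Perm (Fin 6)) 4 = (π g : Perm (Fin 6)) 5 := by rw [hk]; exact ak_four _ hg
    have h1 : g = k * (s * (s⁻¹ * (k⁻¹ * g))) := by group
    have h2 : (π (s⁻¹ * (k⁻¹ * g)) : Perm (Fin 6)) 5 = 5 := by
      rw [map_mul, map_mul, map_inv, map_inv]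
      show (π s : Perm (Fin 6))⁻¹ ((π k : Perm (Fin 6))⁻¹ ((π g : Perm (Fin 6)) 5)) = 5
      have e1 : ∀ (σ : Perm (Fin 6)) (x : Fin 6), σ⁻¹ (σ x) = x := fun σ x => σ.symm_apply_apply x
      rw [← hk4, e1]
      calc (π s : Perm (Fin 6))⁻¹ 4 = (π s : Perm (Fin 6))⁻¹ ((π s : Perm (Fin 6)) 5) := by rw [h4]
        _ = 5 := e1 _ _
    rw [h1, map_mul, map_mul]
    exact Sp_mul (mem_Sp hk5) (Sp_mul hs (mem_Sp h2))

omit [CharP F 5] in
theorem finrank_Sp (h : Rep π ρ) : finrank F (Sp π ρ) ≤ 60 := by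
  classical
  choose sec hsec using h.surj
  let f : {g : Perm (Fin 6) // sign g = 1 ∧ g 5 = 5} → End F V := fun g => ρ (sec ⟨g, mem_alternatingGroup.2 g.2.1⟩)
  have h1 : Sp π ρ ≤ Submodule.span F (Set.range f) := by
    unfold Sp
    rw [Submodule.span_le]
    rintro _ ⟨g, hg, rfl⟩
    have hg' : (π g : Perm (Fin 6)) 5 = 5 := hg
    have h2 : π ((sec (π g))⁻¹ * g) = 1 := by rw [map_mul, map_inv, hsec, inv_mul_cancel]
    obtain ⟨c, hc⟩ := h.sc _ h2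
    have h3 : ρ g = c • ρ (sec (π g)) := by
      calc ρ g = ρ (sec (π g) * ((sec (π g))⁻¹ * g)) := by rw [mul_inv_cancel_left]
        _ = _ := by rw [map_mul, hc, mul_smul_comm, mul_one]
    rw [SetLike.mem_coe, h3]
    apply Submodule.smul_mem
    apply Submodule.subset_span
    exact ⟨⟨π g, mem_alternatingGroup.1 (π g).2, hg'⟩, rfl⟩
  calc finrank F (Sp π ρ) ≤ finrank F (Submodule.span F (Set.range f)) := Submodule.finrank_mono h1
    _ ≤ Fintype.card {g : Perm (Fin 6) // sign g = 1 ∧ g 5 = 5} := finrank_range_le_card f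
    _ = 60 := dec_card5

omit [CharP F 5] in
theorem Sp_ne_top (h : Rep π ρ) : Sp π ρ ≠ ⊤ := by
  intro h1
  have h2 := finrank_Sp h
  rw [h1, finrank_top, Module.finrank_linearMap, h.dim] at h2
  omega

include h d in
/-- **The case `V₀ = 0`.** -/
theorem case_three (h0 : E0 (ρ t1) (ρ t2) (ρ t3) = 0)
    (hs1 : ρ s * E1 (ρ t1) (ρ t2) (ρ t3) = -E1 (ρ t1) (ρ t2) (ρ t3)) : False := by
  have g := gen (ρ := ρ) d
  have mt1 : ρ t1 ∈ Sp π ρ := mem_Sp (by rw [d.q1]; decide)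
  have mt2 : ρ t2 ∈ Sp π ρ := mem_Sp (by rw [d.q2]; decide)
  have mt3 : ρ t3 ∈ Sp π ρ := mem_Sp (by rw [d.q3]; decide)
  have my : ρ y ∈ Sp π ρ := mem_Sp (by rw [d.qy]; decide)
  have m1 : (1 : End F V) ∈ Sp π ρ := by
    rw [← map_one ρ]
    exact mem_Sp (by rw [map_one]; rfl)
  have me1 : E1 (ρ t1) (ρ t2) (ρ t3) ∈ Sp π ρ := by
    unfold E1
    exact Submodule.neg_mem _ (Submodule.sub_mem _ (Submodule.sub_mem _ (Submodule.add_mem _ m1 mt1) mt2) mt3)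
  have k3 : ρ s * E3 (ρ t1) (ρ t2) (ρ t3) = -(ρ y * ρ y * E1 (ρ t1) (ρ t2) (ρ t3) * (ρ y * ρ y)) := by
    have e1 : E3 (ρ t1) (ρ t2) (ρ t3) = ρ y * E1 (ρ t1) (ρ t2) (ρ t3) * (ρ y * ρ y) := by
      rw [g.ye1, mul_assoc, g.yyy, mul_one]
    calc ρ s * E3 (ρ t1) (ρ t2) (ρ t3) = (ρ s * ρ y) * E1 (ρ t1) (ρ t2) (ρ t3) * (ρ y * ρ y) := by
          rw [e1]; noncomm_ring
      _ = ρ y * ρ y * (ρ s * E1 (ρ t1) (ρ t2) (ρ t3)) * (ρ y * ρ y) := by rw [g.sy]; noncomm_ring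
      _ = _ := by rw [hs1]; noncomm_ring
  have k2 : ρ s * E2 (ρ t1) (ρ t2) (ρ t3) = ρ y * ρ y * (ρ s * E3 (ρ t1) (ρ t2) (ρ t3)) * (ρ y * ρ y) := by
    have e1 : E2 (ρ t1) (ρ t2) (ρ t3) = ρ y * E3 (ρ t1) (ρ t2) (ρ t3) * (ρ y * ρ y) := by
      rw [g.ye3, mul_assoc, g.yyy, mul_one]
    calc ρ s * E2 (ρ t1) (ρ t2) (ρ t3) = (ρ s * ρ y) * E3 (ρ t1) (ρ t2) (ρ t3) * (ρ y * ρ y) := by
          rw [e1]; noncomm_ring
      _ = _ := by rw [g.sy]; noncomm_ring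
  have myy : ρ y * ρ y ∈ Sp π ρ := Sp_mul my my
  have m3 : ρ s * E3 (ρ t1) (ρ t2) (ρ t3) ∈ Sp π ρ := by
    rw [k3]
    exact Submodule.neg_mem _ (Sp_mul (Sp_mul myy me1) myy)
  have m2 : ρ s * E2 (ρ t1) (ρ t2) (ρ t3) ∈ Sp π ρ := by
    rw [k2]
    exact Sp_mul (Sp_mul myy m3) myy
  have ms : ρ s ∈ Sp π ρ := by
    have e1 : ρ s = ρ s * E0 (ρ t1) (ρ t2) (ρ t3) + ρ s * E1 (ρ t1) (ρ t2) (ρ t3) + ρ s * E2 (ρ t1) (ρ t2) (ρ t3) +
        ρ s * E3 (ρ t1) (ρ t2) (ρ t3) := by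
      rw [← mul_add, ← mul_add, ← mul_add, V4.sum, mul_one]
    rw [e1, h0, mul_zero, zero_add, hs1]
    exact Submodule.add_mem _ (Submodule.add_mem _ (Submodule.neg_mem _ me1) m2) m3
  exact Sp_ne_top h (Sp_eq_top h ms (by rw [d.qs]; decide))

end Cfsg.Agent.H793.TA
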