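import Cfsg.Agent.H793.TA.Pts

/-!
# Nine-dimensional representations of perfect central extensions of `A₆` in characteristic five: the case `dim V₀ = 3` (helper793)
-/

set_option autoImplicit false
set_option linter.unusedSectionVars false

namespace Cfsg.Agent.H793.TA

open Module Equiv Equiv.Perm

variable {F : Type*} [Field F] [CharP F 5] {V : Type*} [AddCommGroup V] [Module F V] [FiniteDimensional F V]

section ring

/-- the projection onto the `c`-eigenspace of `Y` in the image of `E` -/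
def G (E Y : End F V) (c : F) : End F V := (2 : F) • ((1 + (c * c) • Y + c • (Y * Y)) * E)

variable {E Y : End F V} (hE : E * E = E) (hYE : Y * E = E * Y) (hY : Y * (Y * Y) = 1) {c : F} (hc : c * (c * c) = 1)

include hY hc in
omit [CharP F 5] [FiniteDimensional F V] in
theorem yg : Y * G E Y c = c • G E Y c := by
  have key : Y * (1 + (c * c) • Y + c • (Y * Y)) = c • (1 + (c * c) • Y + c • (Y * Y)) := by
    rw [mul_add, mul_add, mul_one, mul_smul_comm, mul_smul_comm, hY, smul_add, smul_add, smul_smul, smul_smul, hc,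
      one_smul]
    abel
  unfold G
  rw [mul_smul_comm, ← mul_assoc, key, smul_mul_assoc, smul_comm]

include hYE hY hc in
omit [CharP F 5] [FiniteDimensional F V] in
theorem gy : G E Y c * Y = c • G E Y c := by
  rw [← yg hY hc]
  unfold G
  rw [mul_smul_comm, smul_mul_assoc]
  congr 1
  rw [mul_assoc, ← hYE, ← mul_assoc, ← mul_assoc]
  congr 1
  simp only [mul_add, add_mul, mul_one, one_mul, mul_smul_comm, smul_mul_assoc, mul_assoc]

include hE in
omit [CharP F 5] [FiniteDimensional F V] in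
theorem ge (c : F) : G E Y c * E = G E Y c := by
  unfold G
  rw [smul_mul_assoc, mul_assoc, hE]

include hE hYE in
omit [CharP F 5] [FiniteDimensional F V] in
theorem eg (c : F) : E * G E Y c = G E Y c := by
  unfold G
  have h1 : E * (1 + (c * c) • Y + c • (Y * Y)) = (1 + (c * c) • Y + c • (Y * Y)) * E := by
    have h2 : E * (Y * Y) = (Y * Y) * E := by rw [← mul_assoc, ← hYE, mul_assoc, ← hYE, mul_assoc]
    rw [mul_add, mul_add, add_mul, add_mul, mul_one, one_mul, mul_smul_comm, mul_smul_comm, smul_mul_assoc,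
      smul_mul_assoc, h2, hYE]
  rw [mul_smul_comm, ← mul_assoc, h1, mul_assoc, hE]

include hE hYE hY hc in
theorem gg : G E Y c * G E Y c = G E Y c := by
  have h1 := yg (E := E) hY hc
  have h3 : c * c * c = 1 := by rw [mul_assoc]; exact hc
  have h5 : (5 : F) • G E Y c = 0 := by rw [five0 F, zero_smul]
  have h6 : (1 + (c * c) • Y + c • (Y * Y)) * G E Y c = (3 : F) • G E Y c := by
    rw [add_mul, add_mul, one_mul, smul_mul_assoc, smul_mul_assoc, mul_assoc Y Y, h1, mul_smul_comm, h1, smul_smul,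
      smul_smul, smul_smul, h3]
    module
  calc G E Y c * G E Y c = ((2 : F) • ((1 + (c * c) • Y + c • (Y * Y)) * E)) * G E Y c := rfl
    _ = (2 : F) • ((1 + (c * c) • Y + c • (Y * Y)) * (E * G E Y c)) := by rw [smul_mul_assoc, mul_assoc]
    _ = (2 : F) • ((3 : F) • G E Y c) := by rw [eg hE hYE, h6]
    _ = G E Y c := by linear_combination (norm := module) h5

include hYE hY hc in
omit [CharP F 5] [FiniteDimensional F V] in
theorem gg' {c' : F} (hc' : c' * (c' * c') = 1) (hne : c ≠ c') : G E Y c * G E Y c' = 0 := by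
  have h1 := gy hYE hY hc
  have h2 := yg (E := E) hY hc'
  have h3 : c • (G E Y c * G E Y c') = c' • (G E Y c * G E Y c') := by
    rw [← smul_mul_assoc, ← h1, mul_assoc, h2, mul_smul_comm]
  have h4 : (c - c') • (G E Y c * G E Y c') = 0 := by rw [sub_smul, h3, sub_self]
  exact (smul_eq_zero.1 h4).resolve_left (sub_ne_zero.2 hne)

end ring

section group

variable {P : Type*} [Group P] {π : P →* A6} {ρ : P →* End F V}

def g1 : A6 := ⟨swap 0 1 * swap 3 4, mem_alternatingGroup.2 (by decide)⟩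
def g2 : A6 := ⟨swap 1 2 * swap 3 4, mem_alternatingGroup.2 (by decide)⟩
/-- `(2 3 4)` -/
def m1 : A6 := ⟨swap 2 3 * swap 3 4, mem_alternatingGroup.2 (by decide)⟩
/-- `(0 1 2 3 4)` -/
def m2 : A6 := ⟨swap 0 1 * swap 1 2 * swap 2 3 * swap 3 4, mem_alternatingGroup.2 (by decide)⟩

/-- the elements of `K` needed -/
structure KE (π : P →* A6) (t1 t2 t3 ys u1 u2 h1 h2 : P) : Prop where
  mt1 : t1 ∈ K π
  mt2 : t2 ∈ K π
  mt3 : t3 ∈ K π
  mys : ys ∈ K π
  q : π ys = c1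
  yyy : ys * (ys * ys) = 1
  y1 : ys * t1 = t3 * ys
  y3 : ys * t3 = t2 * ys
  y2 : ys * t2 = t1 * ys
  mu1 : u1 ∈ K π
  mu2 : u2 ∈ K π
  uu : u1 * u2 = ys
  mh1 : h1 ∈ K π
  mh2 : h2 ∈ K π
  hu1 : h1 * t1 = u1 * h1
  hu2 : h2 * t1 = u2 * h2

theorem exists_ke (h : Ext π) {t1 t2 t3 s y : P} (d : Elt π t1 t2 t3 s y) :
    ∃ ys u1 u2 h1 h2, KE π t1 t2 t3 ys u1 u2 h1 h2 := by
  obtain ⟨u1, hu1, iu1⟩ := h.exists_sq (g := g1) (by decide)
  obtain ⟨u2, hu2, iu2⟩ := h.exists_sq (g := g2) (by decide)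
  obtain ⟨h1, mh1, hh1⟩ := exists_K h (g := m1) (by decide)
  obtain ⟨h2, mh2, hh2⟩ := exists_K h (g := m2) (by decide)
  have mu1 : u1 ∈ K π := mem_K iu1 (by rw [hu1]; decide)
  have mu2 : u2 ∈ K π := mem_K iu2 (by rw [hu2]; decide)
  have mys : u1 * u2 ∈ K π := mul_mem mu1 mu2
  have q : π (u1 * u2) = c1 := by rw [map_mul, hu1, hu2]; decide
  refine ⟨u1 * u2, u1, u2, h1, h2, mem_K d.i1 (by rw [d.q1]; decide), mem_K d.i2 (by rw [d.q2]; decide),
    mem_K d.i3 (by rw [d.q3]; decide), mys, q, ?_, ?_, ?_, ?_, mu1, mu2, rfl, mh1, mh2, ?_, ?_⟩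
  · apply K_ker h (mul_mem mys (mul_mem mys mys))
    rw [map_mul _ (u1 * u2) (u1 * u2 * (u1 * u2)), map_mul _ (u1 * u2) (u1 * u2), q]
    decide
  · exact h.conj_sq d.i1 d.i3 (by rw [q, d.q1, d.q3]; decide)
  · exact h.conj_sq d.i3 d.i2 (by rw [q, d.q3, d.q2]; decide)
  · exact h.conj_sq d.i2 d.i1 (by rw [q, d.q2, d.q1]; decide)
  · exact h.conj_sq d.i1 iu1 (by rw [hh1, d.q1, hu1]; decide)
  · exact h.conj_sq d.i1 iu2 (by rw [hh2, d.q1, hu2]; decide)

/-- the elements of `K` fixing `4` -/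
theorem KE.four (h : Ext π) {t1 t2 t3 s y ys u1 u2 h1 h2 : P} (d : Elt π t1 t2 t3 s y)
    (e : KE π t1 t2 t3 ys u1 u2 h1 h2) {x : P} (hx : x ∈ K π) (h4 : (π x : Perm (Fin 6)) 4 = 4) :
    ∃ i : ℕ, i < 3 ∧ ∃ t : P, (t = 1 ∨ t = t1 ∨ t = t2 ∨ t = t3) ∧ x = t * ys ^ i := by
  obtain ⟨i, hi⟩ := dec_four (π x) (K_le_Q hx) h4 (mem_alternatingGroup.1 (π x).2)
  refine ⟨i, i.2, ?_⟩
  have hyi : ys ^ (i : ℕ) ∈ K π := pow_mem e.mys _
  have key : ∀ t : P, t ∈ K π → ∀ a : A6, π t = a → (π x : Perm (Fin 6)) = (a : Perm (Fin 6)) * p1 ^ (i : ℕ) →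
      x = t * ys ^ (i : ℕ) := by
    intro t ht a hta hxa
    apply K_inj h hx (mul_mem ht hyi)
    rw [map_mul, map_pow, hta, e.q]
    exact Subtype.ext hxa
  rcases hi with hi | hi | hi | hi
  · exact ⟨1, Or.inl rfl, key 1 (one_mem _) 1 (map_one π) (by rw [hi]; simp)⟩
  · exact ⟨t1, Or.inr (Or.inl rfl), key t1 e.mt1 a1 d.q1 hi⟩
  · exact ⟨t2, Or.inr (Or.inr (Or.inl rfl)), key t2 e.mt2 a2 d.q2 hi⟩
  · exact ⟨t3, Or.inr (Or.inr (Or.inr rfl)), key t3 e.mt3 a3 d.q3 hi⟩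

end group

section main

variable {P : Type*} [Group P] {π : P →* A6} {ρ : P →* End F V} (h : Rep π ρ) {t1 t2 t3 s y ys u1 u2 h1 h2 : P}
  (d : Elt π t1 t2 t3 s y) (e : KE π t1 t2 t3 ys u1 u2 h1 h2)
include h d e

omit [CharP F 5] [FiniteDimensional F V] d in
/-- a primitive cube root of unity -/
theorem exists_omega : ∃ w : F, w * (w * w) = 1 ∧ w ≠ 1 := by
  obtain ⟨z, hz, hz1⟩ := h.ex
  have key : ∃ z, π z = 1 ∧ z ≠ 1 ∧ z ^ 3 = 1 := by
    by_cases h3 : z ^ 3 = 1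
    · exact ⟨z, hz, hz1, h3⟩
    · refine ⟨z ^ 3, by rw [map_pow, hz, one_pow], h3, ?_⟩
      rw [← pow_mul]
      exact h.nine z hz
  obtain ⟨z, hz, hz1, hz3⟩ := key
  obtain ⟨c, hc⟩ := h.sc z hz
  have hV : Nontrivial V := by
    apply Module.nontrivial_of_finrank_pos (R := F)
    rw [h.dim]; norm_num
  have h1 : (c * (c * c)) • (1 : End F V) = (1 : F) • (1 : End F V) := by
    have h2 : ρ (z ^ 3) = (c * (c * c)) • (1 : End F V) := by
      rw [pow_succ, pow_two, map_mul, map_mul, hc, smul_mul_smul_comm, smul_mul_smul_comm, one_mul, one_mul, mul_assoc]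
    rw [← h2, hz3, map_one, one_smul]
  refine ⟨c, smul_left_injective F (one_ne_zero (α := End F V)) h1, ?_⟩
  rintro rfl
  apply hz1
  apply h.inj
  rw [hc, one_smul, map_one]

omit [CharP F 5] [FiniteDimensional F V] in
theorem exists_zeta : ∃ c : F, ρ ys = c • ρ y := by
  have h1 : π (ys * y⁻¹) = 1 := by rw [map_mul, map_inv, e.q, d.qy, mul_inv_cancel]
  obtain ⟨c, hc⟩ := h.sc _ h1
  refine ⟨c, ?_⟩
  calc ρ ys = ρ (ys * y⁻¹ * y) := by rw [inv_mul_cancel_right]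
    _ = c • ρ y := by rw [map_mul, hc, smul_mul_assoc, one_mul]

/-- the ranks of the projections -/
theorem rk_G (hr0 : rk (E0 (ρ t1) (ρ t2) (ρ t3)) = 3) {c : F} (hc : c * (c * c) = 1) :
    rk (G (E0 (ρ t1) (ρ t2) (ρ t3)) (ρ ys) c) = 1 := by
  have g := gen (ρ := ρ) d
  obtain ⟨z, hz⟩ := exists_zeta h d e
  have hY : ρ ys * (ρ ys * ρ ys) = 1 := by rw [← map_mul, ← map_mul, e.yyy, map_one]
  have hYE : ρ ys * E0 (ρ t1) (ρ t2) (ρ t3) = E0 (ρ t1) (ρ t2) (ρ t3) * ρ ys := by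
    rw [hz, smul_mul_assoc, mul_smul_comm, g.ye0]
  have k1 := trace_idem (gg g.e00 hYE hY hc)
  have e1 : ρ y * E0 (ρ t1) (ρ t2) (ρ t3) = -(ρ y + ρ (y * t1) + ρ (y * t2) + ρ (y * t3)) := by
    unfold E0
    rw [mul_neg, mul_add, mul_add, mul_add, mul_one, map_mul, map_mul, map_mul]
  have e2 : ρ y * ρ y * E0 (ρ t1) (ρ t2) (ρ t3) =
      -(ρ (y * y) + ρ (y * y * t1) + ρ (y * y * t2) + ρ (y * y * t3)) := by
    unfold E0
    rw [mul_neg, mul_add, mul_add, mul_add, mul_one, map_mul _ (y * y), map_mul _ (y * y), map_mul _ (y * y), map_mul]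
  have k2 : LinearMap.trace F V (ρ y * E0 (ρ t1) (ρ t2) (ρ t3)) = 0 := by
    rw [e1, map_neg, map_add, map_add, map_add, try0 h d, tryt1 h d, tryt2 h d, tryt3 h d]; ring
  have k3 : LinearMap.trace F V (ρ y * ρ y * E0 (ρ t1) (ρ t2) (ρ t3)) = 0 := by
    rw [e2, map_neg, map_add, map_add, map_add, tryy h d, tryyt1 h d, tryyt2 h d, tryyt3 h d]; ring
  have k4 : LinearMap.trace F V (G (E0 (ρ t1) (ρ t2) (ρ t3)) (ρ ys) c) =
      2 * LinearMap.trace F V (E0 (ρ t1) (ρ t2) (ρ t3)) := by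
    unfold G
    rw [hz, map_smul, smul_eq_mul, add_mul, add_mul, one_mul, map_add, map_add, smul_mul_smul_comm, smul_smul,
      smul_smul, smul_mul_assoc, smul_mul_assoc, map_smul, map_smul, k2, k3, smul_zero, smul_zero, add_zero, add_zero]
  rw [k4, trace_idem g.e00, hr0] at k1
  have k5 := cast_mod (F := F) (a := 6) (b := rk (G (E0 (ρ t1) (ρ t2) (ρ t3)) (ρ ys) c)) (by
    rw [← k1]; push_cast; ring)
  have k6 : rk (G (E0 (ρ t1) (ρ t2) (ρ t3)) (ρ ys) c) ≤ 3 := by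
    rw [← hr0, ← ge (E := E0 (ρ t1) (ρ t2) (ρ t3)) (Y := ρ ys) g.e00 c]
    exact rk_mul_le_right _ _
  omega

end main

end Cfsg.Agent.H793.TA
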