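import Cfsg.Agent.H793.TA.Two

/-!
# Nine-dimensional representations of perfect central extensions of `A₆` in characteristic five: the end (helper793)

`Rep.false` : there is no absolutely irreducible representation of degree 9.
-/

set_option autoImplicit false
set_option linter.unusedSectionVars false

namespace Cfsg.Agent.H793.TA

open Module Equiv Equiv.Perm

variable {F : Type*} [Field F] [CharP F 5] {V : Type*} [AddCommGroup V] [Module F V] [FiniteDimensional F V]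

section v4

variable {T1 T2 T3 : End F V} (h : V4 T1 T2 T3)
include h

omit [CharP F 5] [FiniteDimensional F V]

theorem V4.te1 : T1 * E0 T1 T2 T3 = E0 T1 T2 T3 := by
  unfold E0
  simp only [mul_neg, mul_add, mul_one, h.i1, h.m12, h.m13]
  abel

theorem V4.te2 : T2 * E0 T1 T2 T3 = E0 T1 T2 T3 := by
  unfold E0
  simp only [mul_neg, mul_add, mul_one, h.i2, h.m21, h.m23]
  abel

theorem V4.te3 : T3 * E0 T1 T2 T3 = E0 T1 T2 T3 := by
  unfold E0
  simp only [mul_neg, mul_add, mul_one, h.i3, h.m31, h.m32]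
  abel

theorem V4.et1 : E0 T1 T2 T3 * T1 = E0 T1 T2 T3 := by
  unfold E0
  simp only [neg_mul, add_mul, one_mul, h.i1, h.m21, h.m31]
  abel

theorem V4.et2 : E0 T1 T2 T3 * T2 = E0 T1 T2 T3 := by
  unfold E0
  simp only [neg_mul, add_mul, one_mul, h.i2, h.m12, h.m32]
  abel

theorem V4.et3 : E0 T1 T2 T3 * T3 = E0 T1 T2 T3 := by
  unfold E0
  simp only [neg_mul, add_mul, one_mul, h.i3, h.m13, h.m23]
  abel

end v4

omit [FiniteDimensional F V] in
theorem xiE {T1 T2 T3 : End F V} (ξ : Dual F V) (z1 : ∀ x, ξ (T1 x) = ξ x) (z2 : ∀ x, ξ (T2 x) = -ξ x)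
    (z3 : ∀ x, ξ (T3 x) = -ξ x) (x : V) : ξ (E1 T1 T2 T3 x) = ξ x := by
  unfold E1
  rw [LinearMap.neg_apply, LinearMap.sub_apply, LinearMap.sub_apply, LinearMap.add_apply, map_neg, map_sub, map_sub,
    map_add, z1, z2, z3, Module.End.one_apply]
  linear_combination -ξ x * five0 F

section main

variable {P : Type*} [Group P] {π : P →* A6} {ρ : P →* End F V} (h : Rep π ρ) {t1 t2 t3 s y ys u1 u2 h1 h2 : P}
  (d : Elt π t1 t2 t3 s y) (e : KE π t1 t2 t3 ys u1 u2 h1 h2)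
include h d e

omit [CharP F 5] [FiniteDimensional F V] in
theorem yyy' : ρ ys * (ρ ys * ρ ys) = 1 := by rw [← map_mul, ← map_mul, e.yyy, map_one]

theorem yse0 : ρ ys * E0 (ρ t1) (ρ t2) (ρ t3) = E0 (ρ t1) (ρ t2) (ρ t3) * ρ ys := by
  obtain ⟨z, hz⟩ := exists_zeta h d e
  rw [hz, smul_mul_assoc, mul_smul_comm, (gen (ρ := ρ) d).ye0]

theorem yse1 : ρ ys * E1 (ρ t1) (ρ t2) (ρ t3) = E3 (ρ t1) (ρ t2) (ρ t3) * ρ ys := by
  obtain ⟨z, hz⟩ := exists_zeta h d e
  rw [hz, smul_mul_assoc, mul_smul_comm, (gen (ρ := ρ) d).ye1]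

theorem yse3 : ρ ys * E3 (ρ t1) (ρ t2) (ρ t3) = E2 (ρ t1) (ρ t2) (ρ t3) * ρ ys := by
  obtain ⟨z, hz⟩ := exists_zeta h d e
  rw [hz, smul_mul_assoc, mul_smul_comm, (gen (ρ := ρ) d).ye3]

/-- the action of the stabilizer of `4` -/
theorem act4 {x : P} (hx : x ∈ K π) (h4 : (π x : Perm (Fin 6)) 4 = 4) :
    ∃ i : ℕ, i < 3 ∧ (x * x * x = 1 → x ≠ 1 → i ≠ 0) ∧ ∀ c : F, c * (c * c) = 1 →
      ρ x * G (E0 (ρ t1) (ρ t2) (ρ t3)) (ρ ys) c = c ^ i • G (E0 (ρ t1) (ρ t2) (ρ t3)) (ρ ys) c ∧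
      G (E0 (ρ t1) (ρ t2) (ρ t3)) (ρ ys) c * ρ x = c ^ i • G (E0 (ρ t1) (ρ t2) (ρ t3)) (ρ ys) c := by
  obtain ⟨i, hi, t, ht, hxt⟩ := e.four h.toExt d hx h4
  have g := gen (ρ := ρ) d
  have gy1 := yyy' h d e
  have gy0 := yse0 h d e
  refine ⟨i, hi, ?_, ?_⟩
  · rintro h3 hne rfl
    rw [pow_zero, mul_one] at hxt
    have h5 : t * t = 1 := by
      rcases ht with rfl | rfl | rfl | rfl
      · exact one_mul 1
      · exact d.i1
      · exact d.i2
      · exact d.i3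
    rw [hxt, h5, one_mul] at h3
    exact hne (hxt.trans h3)
  · intro c hc
    have f1 : ρ t * E0 (ρ t1) (ρ t2) (ρ t3) = E0 (ρ t1) (ρ t2) (ρ t3) := by
      rcases ht with rfl | rfl | rfl | rfl
      · rw [map_one, one_mul]
      · exact g.te1
      · exact g.te2
      · exact g.te3
    have f2 : E0 (ρ t1) (ρ t2) (ρ t3) * ρ t = E0 (ρ t1) (ρ t2) (ρ t3) := by
      rcases ht with rfl | rfl | rfl | rfl
      · rw [map_one, mul_one]
      · exact g.et1
      · exact g.et2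
      · exact g.et3
    have f3 : ρ t * G (E0 (ρ t1) (ρ t2) (ρ t3)) (ρ ys) c = G (E0 (ρ t1) (ρ t2) (ρ t3)) (ρ ys) c := by
      rw [← eg g.e00 gy0 c, ← mul_assoc, f1]
    have f4 : G (E0 (ρ t1) (ρ t2) (ρ t3)) (ρ ys) c * ρ t = G (E0 (ρ t1) (ρ t2) (ρ t3)) (ρ ys) c := by
      rw [← ge (Y := ρ ys) g.e00 c, mul_assoc, f2]
    have f5 : ∀ j : ℕ, ρ ys ^ j * G (E0 (ρ t1) (ρ t2) (ρ t3)) (ρ ys) c =
        c ^ j • G (E0 (ρ t1) (ρ t2) (ρ t3)) (ρ ys) c := by
      intro j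
      induction j with
      | zero => rw [pow_zero, pow_zero, one_mul, one_smul]
      | succ j ih => rw [pow_succ, mul_assoc, yg gy1 hc, mul_smul_comm, ih, smul_smul, pow_succ, mul_comm]
    have f6 : ∀ j : ℕ, G (E0 (ρ t1) (ρ t2) (ρ t3)) (ρ ys) c * ρ ys ^ j =
        c ^ j • G (E0 (ρ t1) (ρ t2) (ρ t3)) (ρ ys) c := by
      intro j
      induction j with
      | zero => rw [pow_zero, pow_zero, mul_one, one_smul]
      | succ j ih => rw [pow_succ, ← mul_assoc, ih, smul_mul_assoc, gy gy0 gy1 hc, smul_smul, pow_succ]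
    constructor
    · rw [hxt, map_mul, map_pow, mul_assoc, f5, mul_smul_comm, f3]
    · rw [hxt, map_mul, map_pow, ← mul_assoc, f4, f6]

/-- `e₀ k e_ω = 0` and `e_ω k e₀ = 0` -/
theorem gkg {w : F} (hw : w * (w * w) = 1) (hw1 : w ≠ 1) {x : P} (hx : x ∈ K π) :
    G (E0 (ρ t1) (ρ t2) (ρ t3)) (ρ ys) 1 * ρ x * G (E0 (ρ t1) (ρ t2) (ρ t3)) (ρ ys) w = 0 ∧
      G (E0 (ρ t1) (ρ t2) (ρ t3)) (ρ ys) w * ρ x * G (E0 (ρ t1) (ρ t2) (ρ t3)) (ρ ys) 1 = 0 := by
  have hx5 : (π x : Perm (Fin 6)) 5 = 5 := K_le_Q hx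
  have hj : (π x : Perm (Fin 6)) 4 ≠ 5 := by
    intro h7
    have : (4 : Fin 6) = 5 := (π x : Perm (Fin 6)).injective (h7.trans hx5.symm)
    exact absurd this (by decide)
  obtain ⟨b, hbs, hb5, hb4, hbj, hb3, hb1⟩ := dec_three _ hj
  obtain ⟨β, hβ, hβb⟩ := exists_K h.toExt (g := ⟨b, mem_alternatingGroup.2 hbs⟩) hb5
  have hβ3 : β * β * β = 1 := by
    apply K_ker h.toExt (mul_mem (mul_mem hβ hβ) hβ)
    rw [map_mul, map_mul, hβb]
    exact Subtype.ext hb3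
  have hβ1 : β ≠ 1 := by
    rintro rfl
    rw [map_one] at hβb
    exact hb1 (congrArg Subtype.val hβb).symm
  have hβ4 : (π β : Perm (Fin 6)) 4 = 4 := by rw [hβb]; exact hb4
  set γ := x⁻¹ * β * x with hγ
  have hγK : γ ∈ K π := mul_mem (mul_mem (inv_mem hx) hβ) hx
  have hγ3 : γ * γ * γ = 1 := by
    calc γ * γ * γ = x⁻¹ * (β * β * β) * x := by rw [hγ]; group
      _ = 1 := by rw [hβ3]; group
  have hγ1 : γ ≠ 1 := by
    intro h1
    apply hβ1
    calc β = x * γ * x⁻¹ := by rw [hγ]; group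
      _ = 1 := by rw [h1]; group
  have hγ4 : (π γ : Perm (Fin 6)) 4 = 4 := by
    rw [hγ, map_mul, map_mul, map_inv]
    show (π x : Perm (Fin 6))⁻¹ ((π β : Perm (Fin 6)) ((π x : Perm (Fin 6)) 4)) = 4
    rw [hβb]
    show (π x : Perm (Fin 6))⁻¹ (b ((π x : Perm (Fin 6)) 4)) = 4
    rw [hbj]
    exact (π x : Perm (Fin 6)).symm_apply_apply 4
  obtain ⟨i, hi, hi0, hi'⟩ := act4 h d e hβ hβ4
  obtain ⟨j, hj, hj0, hj'⟩ := act4 h d e hγK hγ4
  have hpow : ∀ k : ℕ, k < 3 → k ≠ 0 → w ^ k ≠ 1 := by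
    intro k hk hk0 h1
    interval_cases k
    · exact hk0 rfl
    · exact hw1 (by rw [← h1, pow_one])
    · apply hw1
      rw [pow_two] at h1
      rw [h1, mul_one] at hw
      exact hw
  have hone : (1 : F) * (1 * 1) = 1 := by ring
  have hxγ : ρ x * ρ γ = ρ β * ρ x := by
    rw [← map_mul, ← map_mul]
    congr 1
    rw [hγ]; group
  set g1 := G (E0 (ρ t1) (ρ t2) (ρ t3)) (ρ ys) 1
  set gw := G (E0 (ρ t1) (ρ t2) (ρ t3)) (ρ ys) w
  have k1 : g1 * ρ β = g1 := by rw [(hi' 1 hone).2, one_pow, one_smul]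
  have k2 : ρ γ * g1 = g1 := by rw [(hj' 1 hone).1, one_pow, one_smul]
  have k3 : gw * ρ β = w ^ i • gw := (hi' w hw).2
  have k4 : ρ γ * gw = w ^ j • gw := (hj' w hw).1
  constructor
  · have k5 : g1 * ρ x * gw = w ^ j • (g1 * ρ x * gw) := by
      calc g1 * ρ x * gw = g1 * (ρ β * ρ x) * gw := by rw [← mul_assoc, k1]
        _ = g1 * ρ x * (ρ γ * gw) := by rw [← hxγ]; noncomm_ring
        _ = w ^ j • (g1 * ρ x * gw) := by rw [k4, mul_smul_comm]
    have k6 : (w ^ j - 1) • (g1 * ρ x * gw) = 0 := by rw [sub_smul, one_smul, ← k5, sub_self]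
    exact (smul_eq_zero.1 k6).resolve_left (sub_ne_zero.2 (hpow j hj (hj0 hγ3 hγ1)))
  · have k5 : gw * ρ x * g1 = w ^ i • (gw * ρ x * g1) := by
      calc gw * ρ x * g1 = gw * ρ x * (ρ γ * g1) := by rw [k2]
        _ = gw * (ρ β * ρ x) * g1 := by rw [← hxγ]; noncomm_ring
        _ = (gw * ρ β) * ρ x * g1 := by noncomm_ring
        _ = w ^ i • (gw * ρ x * g1) := by rw [k3, smul_mul_assoc, smul_mul_assoc]
    have k6 : (w ^ i - 1) • (gw * ρ x * g1) = 0 := by rw [sub_smul, one_smul, ← k5, sub_self]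
    exact (smul_eq_zero.1 k6).resolve_left (sub_ne_zero.2 (hpow i hi (hi0 hβ3 hβ1)))

/-- **The case `dim V₀ = 3`.** -/
theorem case_two (hr1 : rk (E1 (ρ t1) (ρ t2) (ρ t3)) = 2) (hr0 : rk (E0 (ρ t1) (ρ t2) (ρ t3)) = 3) : False := by
  have g := gen (ρ := ρ) d
  have gy1 := yyy' h d e
  have gy0 := yse0 h d e
  obtain ⟨w, hw, hw1⟩ := exists_omega h e
  obtain ⟨k, hk⟩ := h.toExt.exists_lf
  have hone : (1 : F) * (1 * 1) = 1 := by ring
  have k11 : G (E0 (ρ t1) (ρ t2) (ρ t3)) (ρ ys) 1 * G (E0 (ρ t1) (ρ t2) (ρ t3)) (ρ ys) 1 =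
    G (E0 (ρ t1) (ρ t2) (ρ t3)) (ρ ys) 1 := gg g.e00 gy0 gy1 hone
  have kww : G (E0 (ρ t1) (ρ t2) (ρ t3)) (ρ ys) w * G (E0 (ρ t1) (ρ t2) (ρ t3)) (ρ ys) w =
    G (E0 (ρ t1) (ρ t2) (ρ t3)) (ρ ys) w := gg g.e00 gy0 gy1 hw
  have kgk : ∀ x ∈ K π, G (E0 (ρ t1) (ρ t2) (ρ t3)) (ρ ys) 1 * ρ x * G (E0 (ρ t1) (ρ t2) (ρ t3)) (ρ ys) w = 0 ∧
      G (E0 (ρ t1) (ρ t2) (ρ t3)) (ρ ys) w * ρ x * G (E0 (ρ t1) (ρ t2) (ρ t3)) (ρ ys) 1 = 0 :=
    fun x hx => gkg h d e hw hw1 hx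
  have kac : ∀ x ∈ K π, (π x : Perm (Fin 6)) 4 = 4 → ρ x * G (E0 (ρ t1) (ρ t2) (ρ t3)) (ρ ys) 1 =
      G (E0 (ρ t1) (ρ t2) (ρ t3)) (ρ ys) 1 ∧ G (E0 (ρ t1) (ρ t2) (ρ t3)) (ρ ys) 1 * ρ x =
      G (E0 (ρ t1) (ρ t2) (ρ t3)) (ρ ys) 1 := by
    intro x hx h4
    obtain ⟨i, -, -, hi⟩ := act4 h d e hx h4
    have := hi 1 hone
    rwa [one_pow, one_smul] at this
  have rk1 := rk_G h d e hr0 hone
  have rkw := rk_G h d e hr0 hw
  have kyw := yg (E := E0 (ρ t1) (ρ t2) (ρ t3)) gy1 hw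
  set g1 := G (E0 (ρ t1) (ρ t2) (ρ t3)) (ρ ys) 1
  set gw := G (E0 (ρ t1) (ρ t2) (ρ t3)) (ρ ys) w
  -- the vectors
  have hv : ∃ v : V, v ≠ 0 ∧ g1 v = v ∧ ∀ x, ∃ c : F, g1 x = c • v := by
    obtain ⟨v, hv, hv'⟩ := finrank_eq_one_iff'.1 rk1
    refine ⟨v, fun h0 => hv (Subtype.ext h0), apply_of_mem k11 v.2, fun x => ?_⟩
    obtain ⟨c, hc⟩ := hv' ⟨g1 x, x, rfl⟩
    exact ⟨c, (congrArg Subtype.val hc).symm⟩
  obtain ⟨v, hv0, hgv, hvx⟩ := hv
  have hu : ∃ u : V, u ≠ 0 ∧ gw u = u := by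
    obtain ⟨u, hu, -⟩ := finrank_eq_one_iff'.1 rkw
    exact ⟨u, fun h0 => hu (Subtype.ext h0), apply_of_mem kww u.2⟩
  obtain ⟨u, hu0, hgu⟩ := hu
  obtain ⟨φ, hφ⟩ := Module.Projective.exists_dual_eq_one F hv0
  let l : Dual F V := φ ∘ₗ g1
  have hl : ∀ x, g1 x = l x • v := by
    intro x
    obtain ⟨c, hc⟩ := hvx x
    have : l x = c := by
      show φ (g1 x) = c
      rw [hc, map_smul, hφ, smul_eq_mul, mul_one]
    rw [this, hc]
  have hlv : l v = 1 := by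
    show φ (g1 v) = 1
    rw [hgv, hφ]
  have hl0 : l ≠ 0 := by
    intro h0
    rw [h0, LinearMap.zero_apply] at hlv
    exact zero_ne_one hlv
  have hvfix : ∀ x ∈ K π, (π x : Perm (Fin 6)) 4 = 4 → ρ x v = v := by
    intro x hx h4
    have := LinearMap.congr_fun (kac x hx h4).1 v
    rwa [Module.End.mul_apply, hgv] at this
  have hlfix : ∀ x ∈ K π, (π x : Perm (Fin 6)) 4 = 4 → l ∘ₗ ρ x = l := by
    intro x hx h4
    have := (kac x hx h4).2
    show (φ ∘ₗ g1) ∘ₗ ρ x = φ ∘ₗ g1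
    rw [LinearMap.comp_assoc]
    congr 1
  -- points of `V`
  have hno : ∀ w : V, (∀ x ∈ K π, ρ x w = w) → w = 0 := fun w hw => h.noFix hw
  have p1 := pt_sum hk ρ hno hvfix
  have p2 := pt_ne h.toExt hk ρ hno hv0 hvfix
  have peq : ∀ {x : P}, x ∈ K π → ∀ {j : Fin 6}, j ≠ 5 → ρ x (ρ (k j) v) = ρ (k ((π x : Perm (Fin 6)) j)) v :=
    fun {x} hx {j} hj => pt_equiv hk ρ hvfix hx hj
  have q1 : ρ t1 (ρ (k 0) v) = ρ (k 1) v := by
    have := peq e.mt1 (j := 0) (by decide)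
    rw [d.q1] at this; exact this
  have q2 : ρ t2 (ρ (k 0) v) = ρ (k 2) v := by
    have := peq e.mt2 (j := 0) (by decide)
    rw [d.q2] at this; exact this
  have q3 : ρ t3 (ρ (k 0) v) = ρ (k 3) v := by
    have := peq e.mt3 (j := 0) (by decide)
    rw [d.q3] at this; exact this
  have hk4 : ρ (k 4) v = v := by rw [hk.k4 h.toExt, map_one]; rfl
  have lt : ∀ t ∈ K π, (π t : Perm (Fin 6)) 4 = 4 → ∀ x, l (ρ t x) = l x := fun t ht h4 x =>
    LinearMap.congr_fun (hlfix t ht h4) x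
  have l1 := lt t1 e.mt1 (by rw [d.q1]; decide)
  have l2 := lt t2 e.mt2 (by rw [d.q2]; decide)
  have l3 := lt t3 e.mt3 (by rw [d.q3]; decide)
  have l0 : l (ρ (k 0) v) = 1 := by
    have h1 := congrArg l p1
    rw [map_add, map_add, map_add, map_add, map_zero, ← q1, ← q2, ← q3, l1, l2, l3, hk4, hlv] at h1
    linear_combination -h1 + l (ρ (k 0) v) * five0 F
  have lall : ∀ j : Fin 6, j ≠ 5 → l (ρ (k j) v) = 1 := by
    intro j hj
    fin_cases j
    · exact l0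
    · show l (ρ (k 1) v) = 1
      rw [← q1, l1, l0]
    · show l (ρ (k 2) v) = 1
      rw [← q2, l2, l0]
    · show l (ρ (k 3) v) = 1
      rw [← q3, l3, l0]
    · show l (ρ (k 4) v) = 1
      rw [hk4, hlv]
    · exact absurd rfl hj
  have four5 : ∀ x ∈ K π, (π x : Perm (Fin 6)) 4 ≠ 5 := by
    intro x hx h7
    have hx5 : (π x : Perm (Fin 6)) 5 = 5 := K_le_Q hx
    have : (4 : Fin 6) = 5 := (π x : Perm (Fin 6)).injective (h7.trans hx5.symm)
    exact absurd this (by decide)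
  have lx : ∀ x ∈ K π, l (ρ x v) = 1 := by
    intro x hx
    have := peq hx (j := 4) (by decide)
    rw [hk4] at this
    rw [this]
    exact lall _ (four5 x hx)
  -- the submodule `M₀`
  let M0 : Submodule F V := Submodule.span F {z | ∃ x ∈ K π, z = ρ x v - v}
  have hM0 : ∀ x ∈ K π, ρ x v - v ∈ M0 := fun x hx => Submodule.subset_span ⟨x, hx, rfl⟩
  have hM0' : ∀ z ∈ K π, ∀ m ∈ M0, ρ z m ∈ M0 := by
    intro z hz m hm
    induction hm using Submodule.span_induction with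
    | mem m hm =>
      obtain ⟨x, hx, rfl⟩ := hm
      have h1 : ρ z (ρ x v - v) = (ρ (z * x) v - v) - (ρ z v - v) := by
        rw [map_sub, map_mul, Module.End.mul_apply]; abel
      rw [h1]
      exact M0.sub_mem (hM0 _ (mul_mem hz hx)) (hM0 _ hz)
    | zero => rw [map_zero]; exact M0.zero_mem
    | add a b _ _ ha hb => rw [map_add]; exact M0.add_mem ha hb
    | smul c a _ ha => rw [map_smul]; exact M0.smul_mem _ ha
  have hgwM : ∀ m ∈ M0, gw m = 0 := by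
    have h1 : ∀ x ∈ K π, gw (ρ x v) = 0 := by
      intro x hx
      have := LinearMap.congr_fun (kgk x hx).2 v
      rw [Module.End.mul_apply, Module.End.mul_apply, hgv] at this
      exact this
    intro m hm
    induction hm using Submodule.span_induction with
    | mem m hm =>
      obtain ⟨x, hx, rfl⟩ := hm
      have h2 := h1 1 (one_mem _)
      rw [map_one] at h2
      have h3 : gw v = 0 := h2
      rw [map_sub, h1 x hx, h3, sub_zero]
    | zero => exact map_zero _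
    | add a b _ _ ha hb => rw [map_add, ha, hb, add_zero]
    | smul c a _ ha => rw [map_smul, ha, smul_zero]
  -- the vector `x₁`
  set x1 : V := ρ (k 0) v + ρ (k 1) v - ρ (k 2) v - ρ (k 3) v with hx1
  have hx1M : x1 ∈ M0 := by
    have h1 : x1 = (ρ (k 0) v - v) + (ρ (k 1) v - v) - (ρ (k 2) v - v) - (ρ (k 3) v - v) := by rw [hx1]; abel
    rw [h1]
    exact M0.sub_mem (M0.sub_mem (M0.add_mem (hM0 _ (hk.mem _)) (hM0 _ (hk.mem _))) (hM0 _ (hk.mem _)))
      (hM0 _ (hk.mem _))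
  have r1 : ∀ j i : Fin 6, j ≠ 5 → (a1 : Perm (Fin 6)) j = i → ρ t1 (ρ (k j) v) = ρ (k i) v := by
    intro j i hj hi
    have := peq e.mt1 hj
    rw [d.q1, hi] at this; exact this
  have r2 : ∀ j i : Fin 6, j ≠ 5 → (a2 : Perm (Fin 6)) j = i → ρ t2 (ρ (k j) v) = ρ (k i) v := by
    intro j i hj hi
    have := peq e.mt2 hj
    rw [d.q2, hi] at this; exact this
  have r3 : ∀ j i : Fin 6, j ≠ 5 → (a3 : Perm (Fin 6)) j = i → ρ t3 (ρ (k j) v) = ρ (k i) v := by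
    intro j i hj hi
    have := peq e.mt3 hj
    rw [d.q3, hi] at this; exact this
  have f5 : ∀ v : V, (5 : F) • v = 0 := fun v => by rw [five0 F, zero_smul]
  have hE1x : E1 (ρ t1) (ρ t2) (ρ t3) x1 = x1 := by
    have s1 : ρ t1 x1 = x1 := by
      rw [hx1, map_sub, map_sub, map_add, r1 0 1 (by decide) (by decide), r1 1 0 (by decide) (by decide),
        r1 2 3 (by decide) (by decide), r1 3 2 (by decide) (by decide)]
      abel
    have s2 : ρ t2 x1 = -x1 := by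
      rw [hx1, map_sub, map_sub, map_add, r2 0 2 (by decide) (by decide), r2 1 3 (by decide) (by decide),
        r2 2 0 (by decide) (by decide), r2 3 1 (by decide) (by decide)]
      abel
    have s3 : ρ t3 x1 = -x1 := by
      rw [hx1, map_sub, map_sub, map_add, r3 0 3 (by decide) (by decide), r3 1 2 (by decide) (by decide),
        r3 2 1 (by decide) (by decide), r3 3 0 (by decide) (by decide)]
      abel
    unfold E1
    rw [LinearMap.neg_apply, LinearMap.sub_apply, LinearMap.sub_apply, LinearMap.add_apply, s1, s2, s3,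
      Module.End.one_apply]
    linear_combination (norm := module) -f5 x1
  -- the functional `ξ`
  let σ : P →* End F (Dual F V) := Representation.dual ρ
  have hσ : ∀ (x : P) (m : Dual F V), σ x m = m ∘ₗ ρ x⁻¹ := fun x m => rfl
  have hno' : ∀ m : Dual F V, (∀ x ∈ K π, σ x m = m) → m = 0 := by
    intro m hm
    apply h.noFix'
    intro x hx
    have := hm x⁻¹ (inv_mem hx)
    rwa [hσ, inv_inv] at this
  have hlfix' : ∀ x ∈ K π, (π x : Perm (Fin 6)) 4 = 4 → σ x l = l := by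
    intro x hx h4
    rw [hσ]
    apply hlfix x⁻¹ (inv_mem hx)
    rw [map_inv]
    show (π x : Perm (Fin 6))⁻¹ 4 = 4
    calc (π x : Perm (Fin 6))⁻¹ 4 = (π x : Perm (Fin 6))⁻¹ ((π x : Perm (Fin 6)) 4) := by rw [h4]
      _ = 4 := (π x : Perm (Fin 6)).symm_apply_apply 4
  have p2' := pt_ne h.toExt hk σ hno' hl0 hlfix'
  have peq' : ∀ {x : P}, x ∈ K π → ∀ {j : Fin 6}, j ≠ 5 → σ x (σ (k j) l) = σ (k ((π x : Perm (Fin 6)) j)) l :=
    fun {x} hx {j} hj => pt_equiv hk σ hlfix' hx hj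
  have r1' : ∀ j i : Fin 6, j ≠ 5 → (a1 : Perm (Fin 6)) j = i → σ t1 (σ (k j) l) = σ (k i) l := by
    intro j i hj hi
    have := peq' e.mt1 hj
    rw [d.q1, hi] at this; exact this
  have r2' : ∀ j i : Fin 6, j ≠ 5 → (a2 : Perm (Fin 6)) j = i → σ t2 (σ (k j) l) = σ (k i) l := by
    intro j i hj hi
    have := peq' e.mt2 hj
    rw [d.q2, hi] at this; exact this
  have r3' : ∀ j i : Fin 6, j ≠ 5 → (a3 : Perm (Fin 6)) j = i → σ t3 (σ (k j) l) = σ (k i) l := by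
    intro j i hj hi
    have := peq' e.mt3 hj
    rw [d.q3, hi] at this; exact this
  set ξ : Dual F V := σ (k 0) l + σ (k 1) l - σ (k 2) l - σ (k 3) l with hξ
  have i1 : t1⁻¹ = t1 := inv_eq_of_mul_eq_one_left d.i1
  have i2 : t2⁻¹ = t2 := inv_eq_of_mul_eq_one_left d.i2
  have i3 : t3⁻¹ = t3 := inv_eq_of_mul_eq_one_left d.i3
  have z1 : ∀ x, ξ (ρ t1 x) = ξ x := by
    have h1 : σ t1 ξ = ξ := by
      rw [hξ, map_sub, map_sub, map_add, r1' 0 1 (by decide) (by decide), r1' 1 0 (by decide) (by decide),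
        r1' 2 3 (by decide) (by decide), r1' 3 2 (by decide) (by decide)]
      abel
    intro x
    have := LinearMap.congr_fun h1 x
    rw [hσ, i1] at this
    exact this
  have z2 : ∀ x, ξ (ρ t2 x) = -ξ x := by
    have h1 : σ t2 ξ = -ξ := by
      rw [hξ, map_sub, map_sub, map_add, r2' 0 2 (by decide) (by decide), r2' 1 3 (by decide) (by decide),
        r2' 2 0 (by decide) (by decide), r2' 3 1 (by decide) (by decide)]
      abel
    intro x
    have := LinearMap.congr_fun h1 x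
    rw [hσ, i2] at this
    exact this
  have z3 : ∀ x, ξ (ρ t3 x) = -ξ x := by
    have h1 : σ t3 ξ = -ξ := by
      rw [hξ, map_sub, map_sub, map_add, r3' 0 3 (by decide) (by decide), r3' 1 2 (by decide) (by decide),
        r3' 2 1 (by decide) (by decide), r3' 3 0 (by decide) (by decide)]
      abel
    intro x
    have := LinearMap.congr_fun h1 x
    rw [hσ, i3] at this
    exact this
  have hξE : ∀ x, ξ (E1 (ρ t1) (ρ t2) (ρ t3) x) = ξ x := fun x => xiE ξ z1 z2 z3 x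
  have hkk : ∀ j : Fin 6, (k j)⁻¹ = k j := fun j => inv_eq_of_mul_eq_one_left (hk.sq j)
  have hξa : ∀ x, ξ x = l (ρ (k 0) x) + l (ρ (k 1) x) - l (ρ (k 2) x) - l (ρ (k 3) x) := by
    intro x
    rw [hξ, hσ, hσ, hσ, hσ, hkk, hkk, hkk, hkk]
    rfl
  -- the submodule `X`
  let X : V → Prop := fun z => ∀ x ∈ K π, l (ρ x z) = l z
  have hXK : ∀ z, X z → ∀ x ∈ K π, X (ρ x z) := by
    intro z hz x hx y hy
    have h1 := hz (y * x) (mul_mem hy hx)
    rw [map_mul, Module.End.mul_apply] at h1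
    rw [h1, hz x hx]
  have hXξ : ∀ z, X z → ξ z = 0 := by
    intro z hz
    rw [hξa, hz _ (hk.mem 0), hz _ (hk.mem 1), hz _ (hk.mem 2), hz _ (hk.mem 3)]
    ring
  have hXv : X v := fun x hx => by rw [lx x hx, hlv]
  have hXM : ∀ m ∈ M0, X m := by
    intro m hm x hx
    have h1 : ∀ m ∈ M0, l m = 0 := by
      intro m hm
      induction hm using Submodule.span_induction with
      | mem m hm =>
        obtain ⟨x, hx, rfl⟩ := hm
        rw [map_sub, lx x hx, hlv, sub_self]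
      | zero => exact map_zero _
      | add a b _ _ ha hb => rw [map_add, ha, hb, add_zero]
      | smul c a _ ha => rw [map_smul, ha, smul_zero]
    rw [h1 m hm, h1 _ (hM0' x hx m hm)]
  have hXu : X u := by
    have h1 : ∀ x ∈ K π, l (ρ x u) = 0 := by
      intro x hx
      have h2 := LinearMap.congr_fun (kgk x hx).1 u
      rw [Module.End.mul_apply, Module.End.mul_apply, hgu, hl] at h2
      exact (smul_eq_zero.1 h2).resolve_right hv0
    intro x hx
    have h2 := h1 1 (one_mem _)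
    rw [map_one] at h2
    rw [h1 x hx]
    exact h2.symm
  -- `E₁ X ≤ M₀`
  have hE1X : ∀ z, X z → E1 (ρ t1) (ρ t2) (ρ t3) z ∈ M0 := by
    intro z hz
    let R := LinearMap.range (E1 (ρ t1) (ρ t2) (ρ t3))
    let ξR : Dual F R := ξ ∘ₗ R.subtype
    have hξR : ξR ≠ 0 := by
      intro h0
      apply p2'
      ext x
      rw [LinearMap.zero_apply, ← hξE x]
      exact LinearMap.congr_fun h0 ⟨_, x, rfl⟩
    have hk1 : finrank F (LinearMap.ker ξR) = 1 := by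
      have h1 := LinearMap.finrank_range_add_finrank_ker ξR
      have h2 : LinearMap.range ξR = ⊤ := LinearMap.range_eq_top.2 (LinearMap.surjective hξR)
      have h3 : finrank F R = 2 := hr1
      rw [h2, finrank_top, finrank_self, h3] at h1
      omega
    have mx1 : (⟨x1, x1, hE1x⟩ : R) ∈ LinearMap.ker ξR := by
      rw [LinearMap.mem_ker]
      show ξ x1 = 0
      exact hXξ x1 (hXM x1 hx1M)
    have mz : (⟨E1 (ρ t1) (ρ t2) (ρ t3) z, z, rfl⟩ : R) ∈ LinearMap.ker ξR := by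
      rw [LinearMap.mem_ker]
      show ξ (E1 (ρ t1) (ρ t2) (ρ t3) z) = 0
      rw [hξE, hXξ z hz]
    have hne : (⟨⟨x1, x1, hE1x⟩, mx1⟩ : LinearMap.ker ξR) ≠ 0 := by
      intro h0
      exact p2 (congrArg (fun a : LinearMap.ker ξR => ((a : R) : V)) h0)
    obtain ⟨c, hc⟩ := (finrank_eq_one_iff_of_nonzero' _ hne).1 hk1 ⟨_, mz⟩
    have h4 : c • x1 = E1 (ρ t1) (ρ t2) (ρ t3) z := congrArg (fun a : LinearMap.ker ξR => ((a : R) : V)) hc
    rw [← h4]
    exact M0.smul_mem _ hx1M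
  have hyy : ∀ z, ρ ys (ρ (ys * ys) z) = z := by
    intro z
    rw [map_mul]
    exact LinearMap.congr_fun gy1 z
  have hE3X : ∀ z, X z → E3 (ρ t1) (ρ t2) (ρ t3) z ∈ M0 := by
    intro z hz
    have h1 : E3 (ρ t1) (ρ t2) (ρ t3) z = ρ ys (E1 (ρ t1) (ρ t2) (ρ t3) (ρ (ys * ys) z)) := by
      have h2 := LinearMap.congr_fun (yse1 h d e) (ρ (ys * ys) z)
      rw [Module.End.mul_apply, Module.End.mul_apply, hyy] at h2
      exact h2.symm
    rw [h1]
    exact hM0' _ e.mys _ (hE1X _ (hXK z hz _ (mul_mem e.mys e.mys)))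
  have hE2X : ∀ z, X z → E2 (ρ t1) (ρ t2) (ρ t3) z ∈ M0 := by
    intro z hz
    have h1 : E2 (ρ t1) (ρ t2) (ρ t3) z = ρ ys (E3 (ρ t1) (ρ t2) (ρ t3) (ρ (ys * ys) z)) := by
      have h2 := LinearMap.congr_fun (yse3 h d e) (ρ (ys * ys) z)
      rw [Module.End.mul_apply, Module.End.mul_apply, hyy] at h2
      exact h2.symm
    rw [h1]
    exact hM0' _ e.mys _ (hE3X _ (hXK z hz _ (mul_mem e.mys e.mys)))
  have hT1 : ∀ z, X z → ρ t1 z - z ∈ M0 := by
    intro z hz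
    have h1 : ρ t1 z - z = (-2 : F) • (E2 (ρ t1) (ρ t2) (ρ t3) z + E3 (ρ t1) (ρ t2) (ρ t3) z) := by
      unfold E2 E3
      simp only [LinearMap.neg_apply, LinearMap.sub_apply, LinearMap.add_apply, Module.End.one_apply]
      linear_combination (norm := module) -f5 (z - ρ t1 z)
    rw [h1]
    exact M0.smul_mem _ (M0.add_mem (hE2X z hz) (hE3X z hz))
  have hU : ∀ u' h' : P, h' ∈ K π → h' * t1 = u' * h' → ∀ z, X z → ρ u' z - z ∈ M0 := by
    intro u' h' hh' huh z hz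
    have h1 := hT1 _ (hXK z hz h'⁻¹ (inv_mem hh'))
    have h2 := hM0' h' hh' _ h1
    rw [map_sub, ← Module.End.mul_apply, ← Module.End.mul_apply, ← Module.End.mul_apply, ← map_mul, ← map_mul,
      ← map_mul] at h2
    have h3 : h' * t1 * h'⁻¹ = u' := by rw [huh, mul_inv_cancel_right]
    have h4 : h' * h'⁻¹ = 1 := mul_inv_cancel h'
    rw [h3, h4, map_one] at h2
    exact h2
  have hfin : ρ ys u - u ∈ M0 := by
    have h3 := hU u2 h2 e.mh2 e.hu2 u hXu
    have h4 := hU u1 h1 e.mh1 e.hu1 u hXu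
    have h5 := hM0' u1 e.mu1 _ h3
    have h6 : ρ ys u - u = ρ u1 (ρ u2 u - u) + (ρ u1 u - u) := by
      rw [← e.uu, map_mul, Module.End.mul_apply, map_sub]; abel
    rw [h6]
    exact M0.add_mem h5 h4
  have hyu : ρ ys u = w • u := by
    have := LinearMap.congr_fun kyw u
    rw [Module.End.mul_apply, hgu, LinearMap.smul_apply, hgu] at this
    exact this
  have huM : u ∈ M0 := by
    rw [hyu] at hfin
    have h7 : w • u - u = (w - 1) • u := by rw [sub_smul, one_smul]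
    rw [h7] at hfin
    have h8 := M0.smul_mem (w - 1)⁻¹ hfin
    rwa [smul_smul, inv_mul_cancel₀ (sub_ne_zero.2 hw1), one_smul] at h8
  have h9 := hgwM u huM
  rw [hgu] at h9
  exact hu0 h9

end main

/-- **There is no absolutely irreducible representation of degree `9`.** -/
theorem Rep.false {P : Type*} [Group P] {π : P →* A6} {ρ : P →* End F V} (h : Rep π ρ) : False := by
  obtain ⟨t1, t2, t3, s, y, d⟩ := h.toExt.exists_elt
  obtain ⟨ys, u1, u2, h1, h2, e⟩ := exists_ke h.toExt d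
  rcases cases h d with ⟨k1, k2, -⟩ | ⟨k1, k2⟩
  · exact case_two h d e k1 k2
  · exact case_three h d k1 k2

end Cfsg.Agent.H793.TA
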